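import Cfsg.Agent.Lib.SchurMultiplier.Cover
import Mathlib.Data.ZMod.Basic
import Mathlib.Data.ZMod.QuotientRing
import Mathlib.GroupTheory.FiniteAbelian.Basic
import Mathlib.GroupTheory.SpecificGroups.Cyclic

/-!
The multiplier of finite abelian groups: Heisenberg extensions.
-/

set_option autoImplicit false

namespace Cfsg.Agent.Lib.SchurMultiplier

open scoped commutatorElement

universe u

/-- The Heisenberg group over `ZMod n` as affine permutations. -/
def heis (n : ℕ) : Subgroup (Equiv.Perm (ZMod n × ZMod n)) where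
  carrier := {σ | ∃ a b c : ZMod n, ∀ u v, σ (u, v) = (u + a, v + b * u + c)}
  one_mem' := ⟨0, 0, 0, fun u v => by simp⟩
  mul_mem' := by
    rintro σ τ ⟨a, b, c, h⟩ ⟨a', b', c', h'⟩
    exact ⟨a' + a, b' + b, b * a' + c' + c, fun u v => by
      rw [Equiv.Perm.mul_apply, h', h]; ext <;> ring⟩
  inv_mem' := by
    rintro σ ⟨a, b, c, h⟩
    refine ⟨-a, -b, b * a - c, fun u v => ?_⟩
    rw [Equiv.Perm.inv_eq_iff_eq, h]
    ext <;> ring

theorem heis_apply {n : ℕ} (σ : heis n) : ∀ u v : ZMod n,
    (σ : Equiv.Perm (ZMod n × ZMod n)) (u, v) =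
      (u + ((σ : Equiv.Perm (ZMod n × ZMod n)) (0, 0)).1,
        v + (((σ : Equiv.Perm (ZMod n × ZMod n)) (1, 0)).2 -
          ((σ : Equiv.Perm (ZMod n × ZMod n)) (0, 0)).2) * u +
          ((σ : Equiv.Perm (ZMod n × ZMod n)) (0, 0)).2) := by
  obtain ⟨a, b, c, h⟩ := σ.2
  intro u v
  rw [h u v, h 0 0, h 1 0]
  ext <;> simp

/-- The projection of the Heisenberg group. -/
def heisHom (n : ℕ) : heis n →* Multiplicative (ZMod n × ZMod n) where
  toFun σ := Multiplicative.ofAdd (((σ : Equiv.Perm (ZMod n × ZMod n)) (0, 0)).1,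
    ((σ : Equiv.Perm (ZMod n × ZMod n)) (1, 0)).2 - ((σ : Equiv.Perm (ZMod n × ZMod n)) (0, 0)).2)
  map_one' := by simp
  map_mul' := by
    intro σ τ
    obtain ⟨a, b, c, h⟩ := σ.2
    obtain ⟨a', b', c', h'⟩ := τ.2
    simp only [Subgroup.coe_mul, Equiv.Perm.mul_apply, h', h]
    rw [← ofAdd_add]
    congr 1
    ext <;> simp <;> ring

theorem ker_heisHom_le_center (n : ℕ) : (heisHom n).ker ≤ Subgroup.center (heis n) := by
  intro σ hσ
  rw [Subgroup.mem_center_iff]
  intro τ
  have h0 : Multiplicative.toAdd (heisHom n σ) = 0 := by rw [MonoidHom.mem_ker.mp hσ]; rfl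
  have h1 := congrArg Prod.fst h0
  have h2 := congrArg Prod.snd h0
  simp only [heisHom, MonoidHom.coe_mk, OneHom.coe_mk, toAdd_ofAdd, Prod.fst_zero,
    Prod.snd_zero] at h1 h2
  refine Subtype.ext (Equiv.ext fun x => ?_)
  obtain ⟨u, v⟩ := x
  obtain ⟨a', b', c', h'⟩ := τ.2
  simp only [Subgroup.coe_mul, Equiv.Perm.mul_apply]
  have hσ' : ∀ u v : ZMod n, (σ : Equiv.Perm (ZMod n × ZMod n)) (u, v) =
      (u, v + ((σ : Equiv.Perm (ZMod n × ZMod n)) (0, 0)).2) := by
    intro u v
    rw [heis_apply σ u v, h1, h2, zero_mul, add_zero, add_zero]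
  rw [hσ' u v, h', h', hσ' (u + a') (v + b' * u + c')]
  refine Prod.ext ?_ ?_ <;> dsimp only <;> ring

/-- The translation generator. -/
def heisX (n : ℕ) : heis n :=
  ⟨Equiv.addRight ((1, 0) : ZMod n × ZMod n), 1, 0, 0, fun u v => by simp⟩

/-- The shear generator. -/
def heisY (n : ℕ) : heis n :=
  ⟨⟨fun x => (x.1, x.2 + x.1), fun x => (x.1, x.2 - x.1), fun x => by simp, fun x => by simp⟩,
    0, 1, 0, fun u v => by simp⟩

theorem heisHom_surjective (n : ℕ) : Function.Surjective (heisHom n) := fun t => by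
  refine ⟨⟨⟨fun x => (x.1 + (Multiplicative.toAdd t).1, x.2 + (Multiplicative.toAdd t).2 * x.1),
    fun x => (x.1 - (Multiplicative.toAdd t).1,
      x.2 - (Multiplicative.toAdd t).2 * (x.1 - (Multiplicative.toAdd t).1)),
    fun x => by simp, fun x => by simp⟩, (Multiplicative.toAdd t).1, (Multiplicative.toAdd t).2, 0,
    fun u v => by simp⟩, ?_⟩
  simp [heisHom]

theorem commutator_heisX_heisY_pow (n k : ℕ) (u v : ZMod n) :
    ((⁅heisX n, heisY n⁆ ^ k : heis n) : Equiv.Perm (ZMod n × ZMod n)) (u, v) = (u, v - k) := by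
  induction k generalizing u v with
  | zero => simp
  | succ k ih =>
    rw [pow_succ, Subgroup.coe_mul, Equiv.Perm.mul_apply]
    have h1 : ((⁅heisX n, heisY n⁆ : heis n) : Equiv.Perm (ZMod n × ZMod n)) (u, v) = (u, v - 1) := by
      simp only [commutatorElement_def, Subgroup.coe_mul, Subgroup.coe_inv, Equiv.Perm.mul_apply,
        heisX, heisY, Equiv.Perm.inv_def]
      ext <;> simp <;> ring
    rw [h1, ih]
    push_cast
    ext <;> simp <;> ring

theorem orderOf_commutator_heis (n : ℕ) [NeZero n] : orderOf ⁅heisX n, heisY n⁆ = n := by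
  rw [orderOf_eq_iff (NeZero.pos n)]
  refine ⟨Subtype.ext (Equiv.ext fun x => ?_), fun m hm hpos h => ?_⟩
  · obtain ⟨u, v⟩ := x
    rw [commutator_heisX_heisY_pow]
    simp
  · have h2 := commutator_heisX_heisY_pow n m 0 0
    rw [h] at h2
    have h3 : ((m : ℕ) : ZMod n) = 0 := by
      have := congrArg Prod.snd h2
      simpa using this.symm
    rw [ZMod.natCast_eq_zero_iff] at h3
    exact absurd (Nat.le_of_dvd hpos h3) (by omega)

variable {G : Type u} [CommGroup G]

/-- For an abelian group the multiplier is the whole commutator subgroup of `CExt G`. -/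
theorem mult_eq_commutator_of_comm : mult G = commutator (CExt G) :=
  inf_eq_right.mpr (Abelianization.commutator_subset_ker _)

/-- An epimorphism onto `ZMod n × ZMod n` gives an element of order divisible by `n`. -/
theorem exists_mem_mult_dvd_orderOf (n : ℕ) [NeZero n]
    (f : G →* Multiplicative (ZMod n × ZMod n)) (hf : Function.Surjective f) :
    ∃ m ∈ mult G, n ∣ orderOf m := by
  obtain ⟨β, hβ⟩ := exists_lift (heisHom n) (heisHom_surjective n) (ker_heisHom_le_center n) f
  have key : ∀ h : heis n, ∃ e : CExt G, ∃ z ∈ Subgroup.center (heis n), β e = h * z := by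
    intro h
    obtain ⟨g, hg⟩ := hf (heisHom n h)
    obtain ⟨e, rfl⟩ := proj_surjective G g
    refine ⟨e, h⁻¹ * β e, ker_heisHom_le_center n ?_, by simp⟩
    rw [MonoidHom.mem_ker, map_mul, map_inv, ← MonoidHom.comp_apply, hβ, MonoidHom.comp_apply, hg,
      inv_mul_cancel]
  obtain ⟨ex, z, hz, hx⟩ := key (heisX n)
  obtain ⟨ey, z', hz', hy⟩ := key (heisY n)
  refine ⟨⁅ex, ey⁆, ?_, ?_⟩
  · rw [mult_eq_commutator_of_comm]
    exact Subgroup.commutator_mem_commutator (Subgroup.mem_top _) (Subgroup.mem_top _)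
  · have h1 : β ⁅ex, ey⁆ = ⁅heisX n, heisY n⁆ := by
      rw [map_commutatorElement, hx, hy]
      rw [Subgroup.mem_center_iff] at hz hz'
      simp only [commutatorElement_def, mul_inv_rev]
      calc heisX n * z * (heisY n * z') * (z⁻¹ * (heisX n)⁻¹) * (z'⁻¹ * (heisY n)⁻¹)
          = heisX n * (z * (heisY n * z')) * z⁻¹ * ((heisX n)⁻¹ * z'⁻¹) * (heisY n)⁻¹ := by
            simp only [mul_assoc]
        _ = heisX n * (heisY n * z') * ((heisX n)⁻¹ * z'⁻¹) * (heisY n)⁻¹ := by
            rw [← hz (heisY n * z')]; simp only [mul_assoc, mul_inv_cancel_left]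
        _ = heisX n * heisY n * (z' * ((heisX n)⁻¹ * z'⁻¹)) * (heisY n)⁻¹ := by
            simp only [mul_assoc]
        _ = heisX n * heisY n * (heisX n)⁻¹ * (heisY n)⁻¹ := by
            rw [← hz' ((heisX n)⁻¹ * z'⁻¹)]; simp only [mul_assoc, inv_mul_cancel, mul_one]
    have h2 := orderOf_map_dvd β ⁅ex, ey⁆
    rwa [h1, orderOf_commutator_heis] at h2

/-- If two elements generate an abelian group, its multiplier is cyclic, generated by the
commutator of two lifts, and killed by the order of either generator. -/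
theorem exists_generator_mult {g h : G} (hgen : Subgroup.closure ({g, h} : Set G) = ⊤) :
    ∃ c : CExt G, c ∈ mult G ∧ mult G = Subgroup.zpowers c ∧ c ^ orderOf h = 1 := by
  obtain ⟨x, hx⟩ := proj_surjective G g
  obtain ⟨y, hy⟩ := proj_surjective G h
  set c := ⁅x, y⁆
  have hc : c ∈ mult G := by
    rw [mult_eq_commutator_of_comm]
    exact Subgroup.commutator_mem_commutator (Subgroup.mem_top _) (Subgroup.mem_top _)
  have hcc : c ∈ Subgroup.center (CExt G) := mult_le_center G hc
  refine ⟨c, hc, le_antisymm ?_ (Subgroup.zpowers_le.mpr hc), ?_⟩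
  · rw [mult_eq_commutator_of_comm]
    set H := Subgroup.closure ({x, y} : Set (CExt G)) with hH
    have hsup : H ⊔ (proj G).ker = ⊤ := by
      rw [← Subgroup.comap_map_eq, hH, MonoidHom.map_closure, Set.image_pair, hx, hy, hgen,
        Subgroup.comap_top]
    rw [commutator_eq_of_sup_center (ker_proj_le_center G) hsup]
    have hn : (Subgroup.zpowers c).Normal :=
      normal_of_le_center (Subgroup.zpowers_le.mpr hcc)
    let π := QuotientGroup.mk' (Subgroup.zpowers c)
    have hcomm : π x * π y = π y * π x := by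
      rw [← commutatorElement_eq_one_iff_mul_comm, ← map_commutatorElement]
      exact (QuotientGroup.eq_one_iff _).mpr (Subgroup.mem_zpowers c)
    rw [← QuotientGroup.ker_mk' (Subgroup.zpowers c), ← Subgroup.map_eq_bot_iff,
      Subgroup.map_commutator, Subgroup.commutator_eq_bot_iff_le_centralizer, hH,
      MonoidHom.map_closure, Set.image_pair, Subgroup.closure_le]
    intro z hz
    rw [SetLike.mem_coe, Subgroup.mem_centralizer_iff]
    intro w hw
    have h2 : Subgroup.closure ({π x, π y} : Set _) ≤ Subgroup.centralizer ({z} : Set _) := by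
      rw [Subgroup.closure_le]
      intro t ht
      rw [SetLike.mem_coe, Subgroup.mem_centralizer_singleton_iff]
      rcases ht with rfl | rfl <;> rcases hz with rfl | rfl <;>
        first | rfl | exact hcomm | exact hcomm.symm
    exact Subgroup.mem_centralizer_singleton_iff.mp (h2 hw)
  · have h1 : ∀ k : ℕ, ⁅x, y ^ k⁆ = c ^ k := by
      intro k
      induction k with
      | zero => simp [commutatorElement_def]
      | succ k ih =>
        rw [pow_succ', pow_succ, ← ih]
        have e : ⁅x, y * y ^ k⁆ = c * (y * ⁅x, y ^ k⁆ * y⁻¹) := by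
          simp only [c, commutatorElement_def]; group
        rw [e, ih]
        have hk : c ^ k ∈ Subgroup.center (CExt G) := pow_mem hcc k
        rw [Subgroup.mem_center_iff.mp hk y, mul_inv_cancel_right, ← pow_succ', pow_succ]
    rw [← h1, commutatorElement_eq_one_iff_mul_comm]
    have hyk : y ^ orderOf h ∈ (proj G).ker := by
      rw [MonoidHom.mem_ker, map_pow, hy, pow_orderOf_eq_one]
    exact Subgroup.mem_center_iff.mp (ker_proj_le_center G hyk) x

/-- A noncyclic finite abelian group maps onto some `ZMod p × ZMod p`. -/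
theorem exists_surjective_of_not_isCyclic [Finite G] (h : ¬ IsCyclic G) :
    ∃ p : ℕ, p.Prime ∧ ∃ f : G →* Multiplicative (ZMod p × ZMod p), Function.Surjective f := by
  classical
  obtain ⟨ι, _, n, hn, ⟨e⟩⟩ := CommGroup.equiv_prod_multiplicative_zmod_of_finite G
  by_cases hco : Pairwise (Function.onFun Nat.Coprime n)
  · exfalso
    apply h
    have e2 : Multiplicative (ZMod (∏ i, n i)) ≃* G :=
      (AddEquiv.toMultiplicative (ZMod.prodEquivPi n hco).toAddEquiv).trans
        ((MulEquiv.piMultiplicative fun i => ZMod (n i)).trans e.symm)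
    exact isCyclic_of_surjective e2.toMonoidHom e2.surjective
  · simp only [Pairwise, Function.onFun, not_forall] at hco
    obtain ⟨i, j, hij, hg⟩ := hco
    obtain ⟨p, hp, hpg⟩ := Nat.exists_prime_and_dvd hg
    have hpi : p ∣ n i := hpg.trans (Nat.gcd_dvd_left _ _)
    have hpj : p ∣ n j := hpg.trans (Nat.gcd_dvd_right _ _)
    let f : G →* Multiplicative (ZMod p × ZMod p) :=
      { toFun := fun g => Multiplicative.ofAdd (ZMod.castHom hpi (ZMod p) (e g i).toAdd,
          ZMod.castHom hpj (ZMod p) (e g j).toAdd)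
        map_one' := by simp
        map_mul' := fun a b => by
          rw [← ofAdd_add, map_mul, Pi.mul_apply, Pi.mul_apply, toAdd_mul, toAdd_mul, map_add,
            map_add, Prod.mk_add_mk] }
    refine ⟨p, hp, f, fun t => ?_⟩
    obtain ⟨a, ha⟩ := ZMod.castHom_surjective hpi t.toAdd.1
    obtain ⟨b, hb⟩ := ZMod.castHom_surjective hpj t.toAdd.2
    refine ⟨e.symm (Function.update (Function.update 1 i (Multiplicative.ofAdd a)) j
      (Multiplicative.ofAdd b)), ?_⟩
    simp only [f, MonoidHom.coe_mk, OneHom.coe_mk, MulEquiv.apply_symm_apply,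
      Function.update_self, Function.update_of_ne hij, toAdd_ofAdd, ha, hb, Prod.mk.eta,
      ofAdd_toAdd]

/-- The multiplier of a cyclic group is trivial. -/
theorem mult_eq_bot_of_isCyclic {Q : Type u} [Group Q] [IsCyclic Q] : mult Q = ⊥ := by
  obtain ⟨g, hg⟩ := IsCyclic.exists_generator (α := Q)
  obtain ⟨x, hx⟩ := proj_surjective Q g
  have hsup : Subgroup.zpowers x ⊔ (proj Q).ker = ⊤ := by
    rw [← Subgroup.comap_map_eq, MonoidHom.map_zpowers, hx,
      (Subgroup.eq_top_iff' _).mpr hg, Subgroup.comap_top]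
  refine le_bot_iff.mp (inf_le_right.trans (le_of_eq ?_))
  rw [commutator_eq_of_sup_center (ker_proj_le_center Q) hsup,
    Subgroup.commutator_eq_bot_iff_le_centralizer, Subgroup.le_centralizer_iff_isMulCommutative]
  infer_instance

end Cfsg.Agent.Lib.SchurMultiplier
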