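import Cfsg.Agent.Lib.SchurMultiplier.Basic
import Mathlib.GroupTheory.Index

/-!
Covering groups; `HasSchurMultiplier Q A` holds exactly when `A ≃* mult Q`.
-/

set_option autoImplicit false

namespace Cfsg.Agent.Lib.SchurMultiplier

open scoped commutatorElement

universe u v w

variable {Q : Type u} [Group Q]

theorem normal_of_le_center {X : Type w} [Group X] {C : Subgroup X} (h : C ≤ Subgroup.center X) :
    C.Normal :=
  ⟨fun k hk g => by
    rw [Subgroup.mem_center_iff.mp (h hk) g, mul_inv_cancel_right]; exact hk⟩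

/-- A complement of the multiplier inside `ker proj` gives a covering group. -/
theorem exists_cover_of_complement [Finite Q] (C : Subgroup (CExt Q)) (hC : C ≤ (proj Q).ker)
    (hC1 : C ⊓ commutator (CExt Q) = ⊥) (hC2 : C ⊔ mult Q = (proj Q).ker) :
    ∃ (Γ : Type u) (_ : Group Γ) (_ : Finite Γ) (σ : Γ →* Q) (β : CExt Q →* Γ),
      Cfsg.IsStemExtension σ ∧ Nonempty (σ.ker ≃* mult Q) ∧ Function.Surjective β ∧
        σ.comp β = proj Q ∧ β.ker = C := by
  have := normal_of_le_center (hC.trans (ker_proj_le_center Q))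
  let σ : CExt Q ⧸ C →* Q := QuotientGroup.lift C (proj Q) hC
  let β := QuotientGroup.mk' C
  have hβ : σ.comp β = proj Q := MonoidHom.ext fun x => rfl
  have hsurj : Function.Surjective β := QuotientGroup.mk'_surjective C
  have hker : σ.ker = (mult Q).map β := by
    ext x
    constructor
    · intro hx
      obtain ⟨e, rfl⟩ := hsurj x
      have he : e ∈ C ⊔ mult Q := by rw [hC2]; exact hx
      have he' : e ∈ ((C ⊔ mult Q : Subgroup (CExt Q)) : Set (CExt Q)) := he
      rw [Subgroup.normal_mul] at he'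
      obtain ⟨c, hc, m, hm, rfl⟩ := he'
      refine ⟨m, hm, ?_⟩
      simp [β, (QuotientGroup.eq_one_iff c).mpr hc]
    · rintro ⟨m, hm, rfl⟩
      exact hm.1
  have hσsurj : Function.Surjective σ := fun q => by
    obtain ⟨e, rfl⟩ := proj_surjective Q q
    exact ⟨β e, rfl⟩
  have hcomm : σ.ker ≤ commutator (CExt Q ⧸ C) := by
    rw [hker, commutator_def, ← Subgroup.map_top_of_surjective β hsurj, ← Subgroup.map_commutator]
    exact Subgroup.map_mono inf_le_right
  have hcent : σ.ker ≤ Subgroup.center (CExt Q ⧸ C) := by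
    intro x hx
    obtain ⟨e, rfl⟩ := hsurj x
    rw [Subgroup.mem_center_iff]
    intro y
    obtain ⟨f, rfl⟩ := hsurj y
    rw [← map_mul, ← map_mul, Subgroup.mem_center_iff.mp (ker_proj_le_center Q hx) f]
  have hinj : Function.Injective (β.comp (mult Q).subtype) := by
    rw [← MonoidHom.ker_eq_bot_iff, Subgroup.eq_bot_iff_forall]
    intro m hm
    have h1 : (m : CExt Q) ∈ C := (QuotientGroup.eq_one_iff _).mp hm
    exact Subtype.ext (Subgroup.mem_bot.mp (hC1 ▸ Subgroup.mem_inf.mpr ⟨h1, m.2.2⟩))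
  have e2 : mult Q ≃* σ.ker :=
    (MonoidHom.ofInjective hinj).trans
      (MulEquiv.subgroupCongr (by rw [MonoidHom.range_comp, Subgroup.range_subtype, hker]))
  have : Finite σ.ker := Finite.of_equiv _ e2.toEquiv
  have : Finite ((CExt Q ⧸ C) ⧸ σ.ker) :=
    Finite.of_equiv Q (QuotientGroup.quotientKerEquivOfSurjective σ hσsurj).symm.toEquiv
  have hfin : Finite (CExt Q ⧸ C) := Finite.of_subgroup_quotient σ.ker
  exact ⟨CExt Q ⧸ C, inferInstance, hfin, σ, β, ⟨hσsurj, hcent, hcomm⟩, ⟨e2.symm⟩, hsurj, hβ,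
    QuotientGroup.ker_mk' C⟩

variable (Q) in
/-- Every finite group has a covering group. -/
theorem exists_cover [Finite Q] :
    ∃ (Γ : Type u) (_ : Group Γ) (_ : Finite Γ) (σ : Γ →* Q) (β : CExt Q →* Γ),
      Cfsg.IsStemExtension σ ∧ Nonempty (σ.ker ≃* mult Q) ∧ Function.Surjective β ∧
        σ.comp β = proj Q := by
  obtain ⟨C, hC, hC1, hC2⟩ := exists_complement (proj Q).ker (ker_proj_le_center Q)
  obtain ⟨Γ, iG, iF, σ, β, h1, h2, h3, h4, -⟩ := exists_cover_of_complement C hC hC1 hC2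
  exact ⟨Γ, iG, iF, σ, β, h1, h2, h3, h4⟩

/-- Every stem extension receives the multiplier onto its kernel. -/
theorem exists_mult_surj {Δ : Type v} [Group Δ] {τ : Δ →* Q} (hτ : Cfsg.IsStemExtension τ) :
    ∃ π : mult Q →* τ.ker, Function.Surjective π := by
  obtain ⟨β, hβ⟩ := exists_lift τ hτ.1 hτ.2.1 (MonoidHom.id Q)
  rw [MonoidHom.id_comp] at hβ
  obtain ⟨π, hπ, -⟩ := exists_mult_hom_ker hτ hβ
  exact ⟨π, hπ⟩

/-- The kernel of any stem extension is finite. -/
theorem finite_ker [Finite Q] {Δ : Type v} [Group Δ] {τ : Δ →* Q} (hτ : Cfsg.IsStemExtension τ) :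
    Finite τ.ker := by
  obtain ⟨π, hπ⟩ := exists_mult_surj hτ
  exact Finite.of_surjective π hπ

variable (Q) in
/-- The multiplier satisfies the defining property. -/
theorem hasSchurMultiplier_mult [Finite Q] : Cfsg.HasSchurMultiplier Q (mult Q) := by
  refine ⟨?_, fun Γ _ _ σ hσ => exists_mult_surj hσ⟩
  obtain ⟨Γ, iG, iF, σ, -, h1, h2, -, -⟩ := exists_cover Q
  exact ⟨Γ, iG, iF, σ, h1, h2⟩

theorem hasSchurMultiplier_of_mulEquiv {A : Type v} [CommGroup A] {B : Type w} [CommGroup B]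
    (e : A ≃* B) (h : Cfsg.HasSchurMultiplier Q A) : Cfsg.HasSchurMultiplier Q B := by
  obtain ⟨⟨Γ, iG, iF, σ, h1, ⟨e1⟩⟩, h2⟩ := h
  refine ⟨⟨Γ, iG, iF, σ, h1, ⟨e1.trans e⟩⟩, fun Γ _ _ σ hσ => ?_⟩
  obtain ⟨π, hπ⟩ := h2 Γ σ hσ
  exact ⟨π.comp e.symm.toMonoidHom, hπ.comp e.symm.surjective⟩

/-- Uniqueness of the multiplier. -/
theorem nonempty_mulEquiv_mult [Finite Q] {A : Type v} [CommGroup A]
    (h : Cfsg.HasSchurMultiplier Q A) : Nonempty (A ≃* mult Q) := by
  obtain ⟨⟨Δ, iD, iDF, τ, hτ, ⟨eA⟩⟩, h2⟩ := h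
  obtain ⟨Γ, iG, iF, σ, -, h1, ⟨e⟩, -, -⟩ := exists_cover Q
  obtain ⟨π₁, hπ₁⟩ := h2 Γ σ h1
  obtain ⟨π₂, hπ₂⟩ := exists_mult_surj hτ
  have : Finite A := Finite.of_equiv _ eA.toEquiv
  let f : A →* mult Q := e.toMonoidHom.comp π₁
  have hf : Function.Surjective f := e.surjective.comp hπ₁
  let g : mult Q →* A := eA.toMonoidHom.comp π₂
  have hg : Function.Surjective g := eA.surjective.comp hπ₂
  have hcard : Nat.card A = Nat.card (mult Q) :=
    le_antisymm (Nat.card_le_card_of_surjective g hg) (Nat.card_le_card_of_surjective f hf)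
  exact ⟨MulEquiv.ofBijective f ((Nat.bijective_iff_surjective_and_card f).mpr ⟨hf, hcard⟩)⟩

theorem hasSchurMultiplier_iff [Finite Q] {A : Type v} [CommGroup A] :
    Cfsg.HasSchurMultiplier Q A ↔ Nonempty (A ≃* mult Q) :=
  ⟨nonempty_mulEquiv_mult, fun ⟨e⟩ =>
    hasSchurMultiplier_of_mulEquiv e.symm (hasSchurMultiplier_mult Q)⟩

theorem hasCyclicSchurMultiplier_iff [Finite Q] (n : ℕ) [NeZero n] :
    Cfsg.HasCyclicSchurMultiplier Q n ↔ IsCyclic (mult Q) ∧ Nat.card (mult Q) = n := by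
  have hcard : Nat.card (Multiplicative (ZMod n)) = n :=
    (Nat.card_congr Multiplicative.toAdd).trans (Nat.card_zmod n)
  rw [Cfsg.HasCyclicSchurMultiplier, hasSchurMultiplier_iff]
  constructor
  · rintro ⟨e⟩
    exact ⟨isCyclic_of_surjective e.toMonoidHom e.surjective, (Nat.card_congr e.toEquiv).symm.trans hcard⟩
  · rintro ⟨h, hn⟩
    exact ⟨mulEquivOfCyclicCardEq (hcard.trans hn.symm)⟩

theorem hasCyclicSchurMultiplier_one_iff [Finite Q] :
    Cfsg.HasCyclicSchurMultiplier Q 1 ↔ mult Q = ⊥ := by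
  rw [hasCyclicSchurMultiplier_iff]
  constructor
  · exact fun h => Subgroup.eq_bot_of_card_eq _ h.2
  · intro h
    have : Subsingleton (mult Q) := by rw [h]; infer_instance
    exact ⟨isCyclic_of_subsingleton, Nat.card_unique⟩

/-- Every stem extension is the image of a covering group. -/
theorem exists_cover_map [Finite Q] {Δ : Type v} [Group Δ] {τ : Δ →* Q}
    (hτ : Cfsg.IsStemExtension τ) :
    ∃ (Γ : Type u) (_ : Group Γ) (_ : Finite Γ) (σ : Γ →* Q) (f : Γ →* Δ),
      Cfsg.IsStemExtension σ ∧ Nonempty (σ.ker ≃* mult Q) ∧ Function.Surjective f ∧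
        τ.comp f = σ := by
  obtain ⟨β, hβ⟩ := exists_lift τ hτ.1 hτ.2.1 (MonoidHom.id Q)
  rw [MonoidHom.id_comp] at hβ
  have hKle : β.ker ≤ (proj Q).ker := fun x hx => by
    rw [MonoidHom.mem_ker, ← hβ, MonoidHom.comp_apply, MonoidHom.mem_ker.mp hx, map_one]
  obtain ⟨C, hC, hC1, hC2⟩ := exists_complement β.ker (hKle.trans (ker_proj_le_center Q))
  have hC3 : C ⊔ mult Q = (proj Q).ker := by
    refine le_antisymm (sup_le (hC.trans hKle) inf_le_left) fun x hx => ?_
    have hx' : β x ∈ τ.ker ⊓ commutator Δ := by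
      have h : β x ∈ τ.ker := by
        rw [MonoidHom.mem_ker, ← MonoidHom.comp_apply, hβ]; exact hx
      exact Subgroup.mem_inf.mpr ⟨h, hτ.2.2 h⟩
    rw [← map_mult hτ.2.1 hβ] at hx'
    obtain ⟨m, hm, he⟩ := hx'
    have h1 : x * m⁻¹ ∈ β.ker := by simp [MonoidHom.mem_ker, he]
    rw [← hC2] at h1
    have h2 : x * m⁻¹ ∈ C ⊔ mult Q :=
      sup_le_sup le_rfl (inf_le_inf hKle le_rfl) h1
    have := mul_mem h2 (Subgroup.mem_sup_right hm : m ∈ C ⊔ mult Q)
    rwa [inv_mul_cancel_right] at this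
  obtain ⟨Γ, iG, iF, σ, βΓ, h1, h2, h3, h4, h5⟩ :=
    exists_cover_of_complement C (hC.trans hKle) hC1 hC3
  let f : Γ →* Δ := MonoidHom.liftOfSurjective βΓ h3 ⟨β, h5.le.trans hC⟩
  have hf : f.comp βΓ = β :=
    MonoidHom.liftOfRightInverse_comp βΓ _ (Function.rightInverse_surjInv h3) ⟨β, h5.le.trans hC⟩
  refine ⟨Γ, iG, iF, σ, f, h1, h2, ?_, ?_⟩
  · intro d
    obtain ⟨e, rfl⟩ := lift_surjective_of_isStemExtension hτ hβ d
    exact ⟨βΓ e, DFunLike.congr_fun hf e⟩
  · refine MonoidHom.ext fun g => ?_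
    obtain ⟨e, rfl⟩ := h3 g
    rw [MonoidHom.comp_apply, ← MonoidHom.comp_apply f, hf, ← MonoidHom.comp_apply, hβ, ← h4]
    rfl

/-! ### Perfect groups -/

theorem commutator_map_proj (hQ : Group.IsPerfect Q) :
    (commutator (CExt Q)).map (proj Q) = ⊤ := by
  rw [commutator_def, Subgroup.map_commutator,
    Subgroup.map_top_of_surjective _ (proj_surjective Q)]
  exact Group.isPerfect_def.mp hQ

/-- For perfect `Q` the commutator subgroup of `CExt Q` is perfect. -/
theorem commutator_commutator_cExt (hQ : Group.IsPerfect Q) :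
    ⁅commutator (CExt Q), commutator (CExt Q)⁆ = commutator (CExt Q) := by
  refine (commutator_eq_of_sup_center (ker_proj_le_center Q) (eq_top_iff.mpr fun x _ => ?_)).symm
  have hx : proj Q x ∈ (commutator (CExt Q)).map (proj Q) := by
    rw [commutator_map_proj hQ]; trivial
  obtain ⟨c, hc, he⟩ := hx
  have hk : c⁻¹ * x ∈ (proj Q).ker := by simp [MonoidHom.mem_ker, he]
  have := Subgroup.mul_mem_sup hc hk
  rwa [mul_inv_cancel_left] at this

/-- Homomorphisms from a perfect group agreeing modulo central elements are equal. -/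
theorem hom_ext_of_perfect {G : Type v} [Group G] {X : Type w} [Group X] {P : Type u} [Group P]
    (hG : Group.IsPerfect G) {ξ : X →* P} (hc : ξ.ker ≤ Subgroup.center X) {f g : G →* X}
    (h : ξ.comp f = ξ.comp g) : f = g := by
  refine MonoidHom.ext fun x => ?_
  have key : ∀ y, ∃ z ∈ Subgroup.center X, g y = f y * z := fun y => ⟨(f y)⁻¹ * g y, hc (by
    rw [MonoidHom.mem_ker, map_mul, map_inv, ← MonoidHom.comp_apply, ← MonoidHom.comp_apply, h,
      inv_mul_cancel]), by simp⟩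
  suffices commutator G ≤ f.eqLocus g by
    exact this ((Group.isPerfect_def.mp hG).ge (Subgroup.mem_top x))
  rw [commutator_def, Subgroup.commutator_le]
  intro a _ b _
  obtain ⟨z, hz, ha⟩ := key a
  obtain ⟨z', hz', hb⟩ := key b
  rw [Subgroup.mem_center_iff] at hz hz'
  show f ⁅a, b⁆ = g ⁅a, b⁆
  rw [map_commutatorElement, map_commutatorElement, ha, hb]
  simp only [commutatorElement_def, mul_inv_rev]
  symm
  calc f a * z * (f b * z') * (z⁻¹ * (f a)⁻¹) * (z'⁻¹ * (f b)⁻¹)
      = f a * (z * (f b * z')) * z⁻¹ * ((f a)⁻¹ * z'⁻¹) * (f b)⁻¹ := by simp only [mul_assoc]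
    _ = f a * (f b * z') * ((f a)⁻¹ * z'⁻¹) * (f b)⁻¹ := by
        rw [← hz (f b * z')]; simp only [mul_assoc, mul_inv_cancel_left]
    _ = f a * f b * (z' * ((f a)⁻¹ * z'⁻¹)) * (f b)⁻¹ := by simp only [mul_assoc]
    _ = f a * f b * (f a)⁻¹ * (f b)⁻¹ := by
        rw [← hz' ((f a)⁻¹ * z'⁻¹)]; simp only [mul_assoc, inv_mul_cancel, mul_one]

variable (Q) in
/-- The universal perfect cover of a finite perfect group. -/
theorem exists_universal_cover [Finite Q] (hQ : Group.IsPerfect Q) :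
    ∃ (G : Type u) (_ : Group G) (_ : Finite G) (π : G →* Q), Group.IsPerfect G ∧
      Function.Surjective π ∧ π.ker ≤ Subgroup.center G ∧ Nonempty (π.ker ≃* mult Q) ∧
      ∀ {P : Type v} [Group P] (f : Q →* P) {X : Type w} [Group X] (ξ : X →* P),
        Function.Surjective ξ → ξ.ker ≤ Subgroup.center X →
          ∃! η : G →* X, ξ.comp η = f.comp π := by
  set G := (commutator (CExt Q))
  set π := (proj Q).comp G.subtype
  have hG : Group.IsPerfect G := by
    rw [Group.isPerfect_def]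
    refine Subgroup.map_injective G.subtype_injective ?_
    rw [commutator_def, Subgroup.map_commutator, ← MonoidHom.range_eq_map, Subgroup.range_subtype]
    exact commutator_commutator_cExt hQ
  have hker : π.ker = (mult Q).subgroupOf G := by
    ext x
    simp only [π, MonoidHom.mem_ker, MonoidHom.comp_apply, Subgroup.mem_subgroupOf, mult,
      Subgroup.mem_inf, Subgroup.coe_subtype]
    exact ⟨fun h => ⟨h, x.2⟩, fun h => h.1⟩
  have e : π.ker ≃* mult Q := (MulEquiv.subgroupCongr hker).trans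
    (Subgroup.subgroupOfEquivOfLe (inf_le_right : mult Q ≤ G))
  have hsurj : Function.Surjective π := by
    rw [← MonoidHom.range_eq_top, MonoidHom.range_comp, Subgroup.range_subtype]
    exact commutator_map_proj hQ
  have hcent : π.ker ≤ Subgroup.center G := by
    intro x hx
    rw [Subgroup.mem_center_iff]
    exact fun y => Subtype.ext (Subgroup.mem_center_iff.mp (ker_proj_le_center Q hx) y)
  have hfin : Finite G := inferInstance
  refine ⟨G, inferInstance, hfin, π, hG, hsurj, hcent, ⟨e⟩, ?_⟩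
  intro P _ f X _ ξ hξ hc
  obtain ⟨β, hβ⟩ := exists_lift ξ hξ hc f
  refine ⟨β.comp G.subtype, ?_, fun η hη => ?_⟩
  · show ξ.comp (β.comp G.subtype) = f.comp π
    rw [← MonoidHom.comp_assoc, hβ, MonoidHom.comp_assoc]
  · refine hom_ext_of_perfect hG hc ?_
    rw [hη, ← MonoidHom.comp_assoc (f := G.subtype) (g := β) (h := ξ), hβ, MonoidHom.comp_assoc]

end Cfsg.Agent.Lib.SchurMultiplier
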