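import Cfsg.Agent.Lib.SchurMultiplier.Cover
import Mathlib.Algebra.Category.Grp.Injective
import Mathlib.Analysis.Complex.Polynomial.Basic
import Mathlib.LinearAlgebra.Matrix.GeneralLinearGroup.Basic

/-!
Lifting projective representations to covering groups.
-/

set_option autoImplicit false

namespace Cfsg.Agent.Lib.SchurMultiplier

open scoped commutatorElement

universe u v w

theorem exists_zpow_eq_units_complex (a : ℂˣ) {n : ℤ} (hn : n ≠ 0) : ∃ x : ℂˣ, x ^ n = a := by
  obtain ⟨y, hy⟩ := IsAlgClosed.exists_pow_nat_eq (a : ℂ) (Int.natAbs_pos.mpr hn)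
  have hy0 : y ≠ 0 := fun h => a.ne_zero (by rw [← hy, h, zero_pow (Int.natAbs_pos.mpr hn).ne'])
  have hu : (Units.mk0 y hy0) ^ n.natAbs = a := Units.ext (by simpa using hy)
  rcases Int.natAbs_eq n with h | h
  · exact ⟨Units.mk0 y hy0, by rw [h, zpow_natCast]; exact hu⟩
  · exact ⟨(Units.mk0 y hy0)⁻¹, by rw [h, zpow_neg, zpow_natCast, inv_pow, inv_inv]; exact hu⟩

/-- `ℂˣ` is an injective abelian group. -/
theorem baer_units_complex : Module.Baer ℤ (Additive ℂˣ) := by
  classical
  have : DivisibleBy (Additive ℂˣ) ℤ :=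
    { div := fun a n => if hn : n = 0 then 0 else
        Additive.ofMul (exists_zpow_eq_units_complex a.toMul hn).choose
      div_zero := fun a => by simp
      div_cancel := fun {n} a hn => by
        rw [dif_neg hn]
        exact congrArg Additive.ofMul (exists_zpow_eq_units_complex a.toMul hn).choose_spec }
  exact Module.Baer.of_divisible _

variable {Q : Type u} [Group Q]

/-- A character of a subgroup of `CExt Q` meeting the commutator subgroup trivially extends. -/
theorem exists_extend_character (K : Subgroup (CExt Q)) (hK : K ⊓ commutator (CExt Q) = ⊥)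
    (κ : K →* ℂˣ) : ∃ χ : CExt Q →* ℂˣ, ∀ k : K, χ k = κ k := by
  have hcom : ∀ a b : K, a * b = b * a := fun a b => by
    rw [← commutatorElement_eq_one_iff_mul_comm]
    have h : (⁅(a : CExt Q), (b : CExt Q)⁆ : CExt Q) ∈ K ⊓ commutator (CExt Q) := Subgroup.mem_inf.mpr
      ⟨(⁅a, b⁆ : K).2, Subgroup.commutator_mem_commutator (Subgroup.mem_top _) (Subgroup.mem_top _)⟩
    rw [hK, Subgroup.mem_bot] at h
    exact Subtype.ext h
  let _ : CommGroup K := { (inferInstance : Group K) with mul_comm := hcom }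
  let ι : Additive K →+ Additive (Abelianization (CExt Q)) :=
    (Abelianization.of.comp K.subtype).toAdditive
  have hι : Function.Injective ι := by
    rw [injective_iff_map_eq_zero]
    intro a ha
    have h1 : Abelianization.of ((a.toMul : K) : CExt Q) = 1 := ha
    rw [← MonoidHom.mem_ker, Abelianization.ker_of] at h1
    exact Additive.toMul.injective
      (Subtype.ext (Subgroup.mem_bot.mp (hK ▸ Subgroup.mem_inf.mpr ⟨(a.toMul).2, h1⟩)))
  obtain ⟨h, hh⟩ := baer_units_complex.extension_property_addMonoidHom ι hι κ.toAdditive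
  refine ⟨(MonoidHom.toAdditive.symm h |>.comp Abelianization.of), fun k => ?_⟩
  exact congrArg Additive.toMul (DFunLike.congr_fun hh (Additive.ofMul k))

/-- Covering groups receive the linearizations of all projective representations. -/
theorem exists_projective_lift [Finite Q] {Γ : Type v} [Group Γ] {σ : Γ →* Q}
    (hσ : Cfsg.IsStemExtension σ) (hcard : Nat.card σ.ker = Nat.card (mult Q)) {n : ℕ}
    (γ : Q →* (GL (Fin n) ℂ ⧸ Subgroup.center (GL (Fin n) ℂ))) :
    ∃ ρ : Γ →* GL (Fin n) ℂ,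
      (QuotientGroup.mk' (Subgroup.center (GL (Fin n) ℂ))).comp ρ = γ.comp σ := by
  rcases Nat.eq_zero_or_pos n with rfl | hn
  · have : Subsingleton (GL (Fin 0) ℂ) := inferInstance
    have : Subsingleton (GL (Fin 0) ℂ ⧸ Subgroup.center (GL (Fin 0) ℂ)) :=
      (QuotientGroup.mk'_surjective _).subsingleton
    exact ⟨1, MonoidHom.ext fun _ => Subsingleton.elim _ _⟩
  have : Nonempty (Fin n) := ⟨⟨0, hn⟩⟩
  obtain ⟨β, hβ⟩ := exists_lift σ hσ.1 hσ.2.1 (MonoidHom.id Q)
  rw [MonoidHom.id_comp] at hβ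
  have hsurj := lift_surjective_of_isStemExtension hσ hβ
  obtain ⟨π, hπ, hπβ⟩ := exists_mult_hom_ker hσ hβ
  have hπi : Function.Injective π :=
    ((Nat.bijective_iff_surjective_and_card π).mpr ⟨hπ, hcard.symm⟩).1
  have hK : β.ker ⊓ commutator (CExt Q) = ⊥ := by
    rw [Subgroup.eq_bot_iff_forall]
    intro e he
    obtain ⟨h1, h2⟩ := Subgroup.mem_inf.mp he
    have he' : e ∈ mult Q := Subgroup.mem_inf.mpr ⟨by
      rw [MonoidHom.mem_ker, ← hβ, MonoidHom.comp_apply, MonoidHom.mem_ker.mp h1, map_one], h2⟩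
    have : (⟨e, he'⟩ : mult Q) = 1 := hπi (Subtype.ext (by rw [hπβ, map_one]; exact h1))
    exact congrArg Subtype.val this
  obtain ⟨η, hη⟩ := exists_lift (QuotientGroup.mk' (Subgroup.center (GL (Fin n) ℂ)))
    (QuotientGroup.mk'_surjective _) (QuotientGroup.ker_mk' _).le γ
  let s : ℂˣ →* GL (Fin n) ℂ := Matrix.GeneralLinearGroup.scalar (Fin n)
  have hs : Function.Injective s := fun a b hab => by
    have h1 : Matrix.scalar (Fin n) (a : ℂ) = Matrix.scalar (Fin n) (b : ℂ) := congrArg Units.val hab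
    exact Units.ext (Matrix.scalar_inj.mp h1)
  have hmem : ∀ k : β.ker, η k ∈ s.range := fun k => by
    rw [← Matrix.GeneralLinearGroup.center_eq_range_scalar, ← QuotientGroup.eq_one_iff]
    have h1 := DFunLike.congr_fun hη (k : CExt Q)
    simp only [MonoidHom.comp_apply, QuotientGroup.mk'_apply] at h1
    rw [h1, ← hβ, MonoidHom.comp_apply, MonoidHom.mem_ker.mp k.2, map_one, map_one]
  let κ : β.ker →* ℂˣ := (MonoidHom.ofInjective hs).symm.toMonoidHom.comp
    ((η.comp β.ker.subtype).codRestrict s.range hmem)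
  obtain ⟨χ, hχ⟩ := exists_extend_character β.ker hK κ
  have hcomm : ∀ (a : ℂˣ) (x : GL (Fin n) ℂ), x * s a = s a * x := fun a x => by
    have : s a ∈ Subgroup.center (GL (Fin n) ℂ) := by
      rw [Matrix.GeneralLinearGroup.center_eq_range_scalar]; exact ⟨a, rfl⟩
    exact Subgroup.mem_center_iff.mp this x
  let ρ₀ : CExt Q →* GL (Fin n) ℂ :=
    { toFun := fun e => η e * s (χ e)⁻¹
      map_one' := by simp
      map_mul' := fun a b => by
        rw [map_mul, map_mul, mul_inv, map_mul]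
        calc η a * η b * (s (χ a)⁻¹ * s (χ b)⁻¹)
            = η a * (η b * s (χ a)⁻¹) * s (χ b)⁻¹ := by simp only [mul_assoc]
          _ = η a * (s (χ a)⁻¹ * η b) * s (χ b)⁻¹ := by rw [hcomm _ (η b)]
          _ = _ := by simp only [mul_assoc] }
  have hker : β.ker ≤ ρ₀.ker := fun k hk => by
    rw [MonoidHom.mem_ker]
    show η k * s (χ k)⁻¹ = 1
    rw [map_inv, mul_inv_eq_one, hχ ⟨k, hk⟩]
    show η k = s ((MonoidHom.ofInjective hs).symm ⟨η k, hmem ⟨k, hk⟩⟩)
    exact (MonoidHom.apply_ofInjective_symm hs ⟨η k, hmem ⟨k, hk⟩⟩).symm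
  refine ⟨MonoidHom.liftOfSurjective β hsurj ⟨ρ₀, hker⟩, MonoidHom.ext fun g => ?_⟩
  obtain ⟨e, rfl⟩ := hsurj g
  rw [MonoidHom.comp_apply, MonoidHom.comp_apply, ← MonoidHom.comp_apply σ β, hβ]
  have h1 : MonoidHom.liftOfSurjective β hsurj ⟨ρ₀, hker⟩ (β e) = ρ₀ e :=
    MonoidHom.liftOfRightInverse_comp_apply β _ (Function.rightInverse_surjInv hsurj) ⟨ρ₀, hker⟩ e
  rw [h1]
  show (QuotientGroup.mk' _) (η e * s (χ e)⁻¹) = γ (proj Q e)
  rw [map_mul, ← MonoidHom.comp_apply, hη]
  have h2 : (QuotientGroup.mk' (Subgroup.center (GL (Fin n) ℂ))) (s (χ e)⁻¹) = 1 := by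
    rw [QuotientGroup.mk'_apply, QuotientGroup.eq_one_iff,
      Matrix.GeneralLinearGroup.center_eq_range_scalar]
    exact ⟨_, rfl⟩
  rw [h2, mul_one, MonoidHom.comp_apply]

end Cfsg.Agent.Lib.SchurMultiplier
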