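import Cfsg.Prelude.Def_KGroupFacts
import Mathlib.GroupTheory.FreeGroup.Basic
import Mathlib.GroupTheory.Schreier
import Mathlib.GroupTheory.Abelianization.Defs
import Mathlib.LinearAlgebra.FreeModule.PID
import Mathlib.Algebra.Module.Projective
import Mathlib.Algebra.EuclideanDomain.Int
import Mathlib.RingTheory.PrincipalIdealDomain
import Mathlib.GroupTheory.IsPerfect

/-!
The Schur multiplier of a finite group through the free central extension
`CExt Q = F / [R, F]`, `F` free on the elements of `Q`.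
-/

set_option autoImplicit false

namespace Cfsg.Agent.Lib.SchurMultiplier

open scoped commutatorElement

universe u v w

variable (Q : Type u) [Group Q]

/-- The evaluation map from the free group on the elements of `Q`. -/
def pres : FreeGroup Q →* Q := FreeGroup.lift id

theorem pres_surjective : Function.Surjective (pres Q) := fun q =>
  ⟨FreeGroup.of q, by simp [pres]⟩

/-- `[R, F]`. -/
def relComm : Subgroup (FreeGroup Q) := ⁅(pres Q).ker, (⊤ : Subgroup (FreeGroup Q))⁆

instance relComm_normal : (relComm Q).Normal := by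
  unfold relComm
  infer_instance

theorem relComm_le_ker : relComm Q ≤ (pres Q).ker := Subgroup.commutator_le_left _ _

theorem relComm_le_commutator : relComm Q ≤ commutator (FreeGroup Q) :=
  Subgroup.commutator_mono le_top le_rfl

/-- The free central extension `F / [R, F]` of `Q`. -/
abbrev CExt : Type u := FreeGroup Q ⧸ relComm Q

/-- The projection `CExt Q →* Q`. -/
def proj : CExt Q →* Q := QuotientGroup.lift (relComm Q) (pres Q) (relComm_le_ker Q)

theorem proj_surjective : Function.Surjective (proj Q) := fun q =>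
  ⟨QuotientGroup.mk' _ (FreeGroup.of q), by
    rw [proj, QuotientGroup.mk'_apply, QuotientGroup.lift_mk]
    simp [pres]⟩

theorem ker_proj_le_center : (proj Q).ker ≤ Subgroup.center (CExt Q) := by
  intro x hx
  obtain ⟨r, rfl⟩ := QuotientGroup.mk'_surjective _ x
  rw [Subgroup.mem_center_iff]
  intro y
  obtain ⟨f, rfl⟩ := QuotientGroup.mk'_surjective _ y
  have hr : r ∈ (pres Q).ker := hx
  have h : ⁅r, f⁆ ∈ relComm Q := Subgroup.commutator_mem_commutator hr (Subgroup.mem_top f)
  have h2 := (QuotientGroup.eq_one_iff _).mpr h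
  rw [← QuotientGroup.mk'_apply, map_commutatorElement,
    commutatorElement_eq_one_iff_mul_comm] at h2
  exact h2.symm

/-- The Schur multiplier of `Q`, as the subgroup `(R ∩ F') / [R, F]` of `CExt Q`. -/
def mult : Subgroup (CExt Q) := (proj Q).ker ⊓ commutator (CExt Q)

theorem mult_le_center : mult Q ≤ Subgroup.center (CExt Q) := inf_le_left.trans (ker_proj_le_center Q)

instance mult_isMulCommutative : IsMulCommutative (mult Q) :=
  ⟨⟨fun a b => Subtype.ext (Subgroup.mem_center_iff.mp (mult_le_center Q b.2) a)⟩⟩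

instance multCommGroup : CommGroup (mult Q) :=
  { (inferInstance : Group (mult Q)) with
    mul_comm := fun a b => Subtype.ext (Subgroup.mem_center_iff.mp (mult_le_center Q b.2) a) }

instance finite_commutatorSet_cExt [Finite Q] : Finite (commutatorSet (CExt Q)) := by
  obtain ⟨s, hs⟩ := (proj_surjective Q).hasRightInverse
  refine Set.Finite.to_subtype ((Set.finite_range fun p : Q × Q => ⁅s p.1, s p.2⁆).subset ?_)
  rintro _ ⟨a, b, rfl⟩
  refine ⟨(proj Q a, proj Q b), ?_⟩
  have key : ∀ x : CExt Q, ∃ z ∈ Subgroup.center (CExt Q), x = s (proj Q x) * z := fun x =>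
    ⟨(s (proj Q x))⁻¹ * x, ker_proj_le_center Q (by rw [MonoidHom.mem_ker]; simp [hs (proj Q x)]),
      by simp⟩
  obtain ⟨z, hz, ha⟩ := key a
  obtain ⟨w, hw, hb⟩ := key b
  conv_rhs => rw [ha, hb]
  simp only [commutatorElement_def]
  rw [Subgroup.mem_center_iff] at hz hw
  calc s (proj Q a) * s (proj Q b) * (s (proj Q a))⁻¹ * (s (proj Q b))⁻¹
      = s (proj Q a) * s (proj Q b) * (z * z⁻¹) * (s (proj Q a))⁻¹ *
          (w * w⁻¹) * (s (proj Q b))⁻¹ := by simp
    _ = _ := by
      have e1 : s (proj Q a) * s (proj Q b) * z = s (proj Q a) * z * s (proj Q b) := by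
        rw [mul_assoc, hz (s (proj Q b)), ← mul_assoc]
      have e2 : z⁻¹ * (s (proj Q a))⁻¹ * w = w * (z⁻¹ * (s (proj Q a))⁻¹) :=
        (hw _)
      simp only [mul_inv_rev]
      calc s (proj Q a) * s (proj Q b) * (z * z⁻¹) * (s (proj Q a))⁻¹ * (w * w⁻¹) * (s (proj Q b))⁻¹
          = (s (proj Q a) * s (proj Q b) * z) * (z⁻¹ * (s (proj Q a))⁻¹ * w) *
              (w⁻¹ * (s (proj Q b))⁻¹) := by simp only [mul_assoc]
        _ = _ := by rw [e1, e2]; simp only [mul_assoc]

instance mult_finite [Finite Q] : Finite (mult Q) :=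
  Finite.of_injective (Subgroup.inclusion (inf_le_right : mult Q ≤ commutator (CExt Q)))
    (Subgroup.inclusion_injective _)

/-! ### Central extensions receive maps from `CExt Q` -/

variable {Q}

/-- A central extension of a target of `Q` receives a map from the free central extension. -/
theorem exists_lift {P : Type v} [Group P] {X : Type w} [Group X] (ξ : X →* P)
    (hξ : Function.Surjective ξ) (hc : ξ.ker ≤ Subgroup.center X) (f : Q →* P) :
    ∃ β : CExt Q →* X, ξ.comp β = f.comp (proj Q) := by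
  obtain ⟨s, hs⟩ := hξ.hasRightInverse
  let β₀ : FreeGroup Q →* X := FreeGroup.lift fun q => s (f q)
  have h0 : ξ.comp β₀ = f.comp (pres Q) := by
    refine FreeGroup.ext_hom _ _ fun q => ?_
    simp [β₀, pres, hs (f q)]
  have hker : relComm Q ≤ β₀.ker := by
    refine Subgroup.commutator_le.mpr fun r hr y _ => ?_
    rw [MonoidHom.mem_ker, map_commutatorElement, commutatorElement_eq_one_iff_mul_comm]
    have h1 : β₀ r ∈ ξ.ker := by
      rw [MonoidHom.mem_ker, ← MonoidHom.comp_apply, h0]
      simp [MonoidHom.mem_ker.mp hr]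
    exact (Subgroup.mem_center_iff.mp (hc h1) _).symm
  refine ⟨QuotientGroup.lift _ β₀ hker, MonoidHom.ext fun x => ?_⟩
  obtain ⟨y, rfl⟩ := QuotientGroup.mk'_surjective _ x
  simp only [MonoidHom.comp_apply, QuotientGroup.mk'_apply, QuotientGroup.lift_mk, proj]
  exact DFunLike.congr_fun h0 y

/-- If `H` and a central subgroup generate, `H` contains all commutators in its image. -/
theorem commutator_eq_of_sup_center {X : Type w} [Group X] {H K : Subgroup X}
    (hK : K ≤ Subgroup.center X) (h : H ⊔ K = ⊤) : commutator X = ⁅H, H⁆ := by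
  refine le_antisymm ?_ (Subgroup.commutator_mono le_top le_top)
  have hn : K.Normal := ⟨fun k hk g => by
    rw [Subgroup.mem_center_iff.mp (hK hk) g, mul_inv_cancel_right]; exact hk⟩
  rw [commutator_def, Subgroup.commutator_le]
  intro a _ b _
  have key : ∀ x : X, ∃ y ∈ H, ∃ z ∈ Subgroup.center X, x = y * z := by
    intro x
    have hx : x ∈ ((H ⊔ K : Subgroup X) : Set X) := by rw [h]; trivial
    rw [Subgroup.mul_normal] at hx
    obtain ⟨y, hy, z, hz, rfl⟩ := hx
    exact ⟨y, hy, z, hK hz, rfl⟩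
  obtain ⟨y, hy, z, hz, rfl⟩ := key a
  obtain ⟨y', hy', z', hz', rfl⟩ := key b
  rw [Subgroup.mem_center_iff] at hz hz'
  have e : ⁅y * z, y' * z'⁆ = ⁅y, y'⁆ := by
    simp only [commutatorElement_def, mul_inv_rev]
    calc y * z * (y' * z') * (z⁻¹ * y⁻¹) * (z'⁻¹ * y'⁻¹)
        = y * (z * (y' * z')) * z⁻¹ * (y⁻¹ * z'⁻¹) * y'⁻¹ := by simp only [mul_assoc]
      _ = y * (y' * z') * (y⁻¹ * z'⁻¹) * y'⁻¹ := by
          rw [← hz (y' * z')]; simp only [mul_assoc, mul_inv_cancel_left]
      _ = y * y' * (z' * (y⁻¹ * z'⁻¹)) * y'⁻¹ := by simp only [mul_assoc]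
      _ = y * y' * y⁻¹ * y'⁻¹ := by
          rw [← hz' (y⁻¹ * z'⁻¹)]; simp only [mul_assoc, inv_mul_cancel, mul_one]
  rw [e]
  exact Subgroup.commutator_mem_commutator hy hy'


section lift

variable {X : Type w} [Group X] {ξ : X →* Q} {β : CExt Q →* X}

theorem range_sup_ker (hβ : ξ.comp β = proj Q) : β.range ⊔ ξ.ker = ⊤ := by
  rw [eq_top_iff]
  intro x _
  obtain ⟨e, he⟩ := proj_surjective Q (ξ x)
  have h : (β e)⁻¹ * x ∈ ξ.ker := by
    rw [MonoidHom.mem_ker, map_mul, map_inv, ← MonoidHom.comp_apply, hβ, he, inv_mul_cancel]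
  have := Subgroup.mul_mem_sup (MonoidHom.mem_range.mpr ⟨e, rfl⟩ : β e ∈ β.range) h
  rwa [mul_inv_cancel_left] at this

theorem map_commutator_cExt (hc : ξ.ker ≤ Subgroup.center X) (hβ : ξ.comp β = proj Q) :
    (commutator (CExt Q)).map β = commutator X := by
  rw [commutator_eq_of_sup_center hc (range_sup_ker hβ), commutator_def, Subgroup.map_commutator,
    ← MonoidHom.range_eq_map]

/-- In a central extension `ξ : X → Q`, `ker ξ ⊓ X'` is the image of the multiplier. -/
theorem map_mult (hc : ξ.ker ≤ Subgroup.center X) (hβ : ξ.comp β = proj Q) :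
    (mult Q).map β = ξ.ker ⊓ commutator X := by
  ext x
  constructor
  · rintro ⟨m, hm, rfl⟩
    refine ⟨?_, map_commutator_cExt hc hβ ▸ Subgroup.mem_map_of_mem β hm.2⟩
    show ξ (β m) = 1
    rw [← MonoidHom.comp_apply, hβ]
    exact hm.1
  · rintro ⟨hx1, hx2⟩
    rw [SetLike.mem_coe, ← map_commutator_cExt hc hβ] at hx2
    obtain ⟨m, hm, rfl⟩ := hx2
    refine ⟨m, ⟨?_, hm⟩, rfl⟩
    show proj Q m = 1
    rw [← hβ]
    exact hx1

theorem lift_surjective_of_isStemExtension (hσ : Cfsg.IsStemExtension ξ)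
    (hβ : ξ.comp β = proj Q) : Function.Surjective β := by
  rw [← MonoidHom.range_eq_top, ← top_le_iff, ← range_sup_ker hβ]
  refine sup_le le_rfl ?_
  refine hσ.2.2.trans ?_
  rw [← map_commutator_cExt hσ.2.1 hβ]
  exact Subgroup.map_le_range _ _

/-- The map from the multiplier onto the kernel of a stem extension. -/
theorem exists_mult_hom_ker (hσ : Cfsg.IsStemExtension ξ) (hβ : ξ.comp β = proj Q) :
    ∃ π : mult Q →* ξ.ker, Function.Surjective π ∧ ∀ m : mult Q, (π m : X) = β m := by
  have hmem : ∀ m : mult Q, β m ∈ ξ.ker := fun m => by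
    rw [MonoidHom.mem_ker, ← MonoidHom.comp_apply, hβ]
    exact m.2.1
  refine ⟨MonoidHom.codRestrict (β.comp (mult Q).subtype) ξ.ker hmem, ?_, fun m => rfl⟩
  rintro ⟨x, hx⟩
  have hx' : x ∈ (mult Q).map β := by
    rw [map_mult hσ.2.1 hβ]
    exact ⟨hx, hσ.2.2 hx⟩
  obtain ⟨m, hm, rfl⟩ := hx'
  exact ⟨⟨m, hm⟩, rfl⟩

/-- Two maps from `CExt Q` over `Q` into a central extension agree on commutators. -/
theorem eqOn_commutator {β' : CExt Q →* X} (hc : ξ.ker ≤ Subgroup.center X)
    (h : ξ.comp β = ξ.comp β') {e : CExt Q} (he : e ∈ commutator (CExt Q)) : β e = β' e := by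
  suffices commutator (CExt Q) ≤ β.eqLocus β' from this he
  rw [commutator_def, Subgroup.commutator_le]
  intro a _ b _
  have key : ∀ x, ∃ z ∈ Subgroup.center X, β' x = β x * z := fun x => ⟨(β x)⁻¹ * β' x, hc (by
    rw [MonoidHom.mem_ker, map_mul, map_inv, ← MonoidHom.comp_apply, ← MonoidHom.comp_apply, h,
      inv_mul_cancel]), by simp⟩
  obtain ⟨z, hz, ha⟩ := key a
  obtain ⟨z', hz', hb⟩ := key b
  rw [Subgroup.mem_center_iff] at hz hz'
  show β ⁅a, b⁆ = β' ⁅a, b⁆
  rw [map_commutatorElement, map_commutatorElement, ha, hb]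
  simp only [commutatorElement_def, mul_inv_rev]
  symm
  calc β a * z * (β b * z') * (z⁻¹ * (β a)⁻¹) * (z'⁻¹ * (β b)⁻¹)
      = β a * (z * (β b * z')) * z⁻¹ * ((β a)⁻¹ * z'⁻¹) * (β b)⁻¹ := by simp only [mul_assoc]
    _ = β a * (β b * z') * ((β a)⁻¹ * z'⁻¹) * (β b)⁻¹ := by
        rw [← hz (β b * z')]; simp only [mul_assoc, mul_inv_cancel_left]
    _ = β a * β b * (z' * ((β a)⁻¹ * z'⁻¹)) * (β b)⁻¹ := by simp only [mul_assoc]
    _ = β a * β b * (β a)⁻¹ * (β b)⁻¹ := by
        rw [← hz' ((β a)⁻¹ * z'⁻¹)]; simp only [mul_assoc, inv_mul_cancel, mul_one]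

end lift

/-! ### Complements of the multiplier -/

/-- The abelianization map of the free central extension to `Q →₀ ℤ`. -/
noncomputable def abHom (Q : Type u) [Group Q] : CExt Q →* Multiplicative (Q →₀ ℤ) :=
  QuotientGroup.lift (relComm Q)
    (FreeGroup.lift fun q => Multiplicative.ofAdd (Finsupp.single q 1))
    ((relComm_le_commutator Q).trans (Abelianization.commutator_subset_ker _))

theorem ker_abHom : (abHom Q).ker = commutator (CExt Q) := by
  refine le_antisymm ?_ (Abelianization.commutator_subset_ker _)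
  let θ : (Q →₀ ℤ) →+ Additive (Abelianization (FreeGroup Q)) :=
    Finsupp.liftAddHom fun q =>
      zmultiplesHom _ (Additive.ofMul (Abelianization.of (FreeGroup.of q)))
  have key : θ.toMultiplicativeLeft.comp
      (FreeGroup.lift fun q => Multiplicative.ofAdd (Finsupp.single q (1 : ℤ))) =
      Abelianization.of := by
    refine FreeGroup.ext_hom _ _ fun q => ?_
    simp [θ]
  intro x hx
  obtain ⟨y, rfl⟩ := QuotientGroup.mk'_surjective _ x
  rw [MonoidHom.mem_ker, abHom, QuotientGroup.mk'_apply, QuotientGroup.lift_mk] at hx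
  have h2 : Abelianization.of y = 1 := by rw [← key, MonoidHom.comp_apply, hx, map_one]
  have h3 : y ∈ commutator (FreeGroup Q) := by
    rwa [← Abelianization.ker_of, MonoidHom.mem_ker]
  have h4 := Subgroup.mem_map_of_mem (QuotientGroup.mk' (relComm Q)) h3
  rw [commutator_def, Subgroup.map_commutator,
    Subgroup.map_top_of_surjective _ (QuotientGroup.mk'_surjective _)] at h4
  exact h4

/-- A central subgroup of `CExt Q` splits over its intersection with the commutator subgroup. -/
theorem exists_complement [Finite Q] (K : Subgroup (CExt Q)) (hK : K ≤ Subgroup.center (CExt Q)) :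
    ∃ C : Subgroup (CExt Q), C ≤ K ∧ C ⊓ commutator (CExt Q) = ⊥ ∧
      C ⊔ K ⊓ commutator (CExt Q) = K := by
  let instK : CommGroup K :=
    { (inferInstance : Group K) with
      mul_comm := fun a b => Subtype.ext (Subgroup.mem_center_iff.mp (hK b.2) a) }
  let g : Additive K →+ (Q →₀ ℤ) :=
    { toFun := fun k => (abHom Q (k.toMul : K)).toAdd
      map_zero' := by simp
      map_add' := fun a b => by simp }
  let gR := g.toIntLinearMap.rangeRestrict
  have : Module.Free ℤ (LinearMap.range g.toIntLinearMap) :=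
    Module.Free.of_basis ((Submodule.nonempty_basis_of_pid Finsupp.basisSingleOne
      (LinearMap.range g.toIntLinearMap)).choose_spec.some)
  obtain ⟨s, hs⟩ := gR.exists_rightInverse_of_surjective g.toIntLinearMap.range_rangeRestrict
  let χ : Multiplicative (LinearMap.range g.toIntLinearMap) →* CExt Q :=
    K.subtype.comp (AddMonoidHom.toMultiplicativeLeft s.toAddMonoidHom)
  have hχ : ∀ y, (abHom Q (χ y)).toAdd = (y.toAdd : Q →₀ ℤ) := fun y => by
    have := congrArg Subtype.val (LinearMap.congr_fun hs y.toAdd)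
    exact this
  have hCK : χ.range ≤ K := by
    rintro _ ⟨y, rfl⟩
    exact (AddMonoidHom.toMultiplicativeLeft s.toAddMonoidHom y).2
  refine ⟨χ.range, hCK, ?_, le_antisymm (sup_le hCK inf_le_left) ?_⟩
  · rw [Subgroup.eq_bot_iff_forall]
    rintro _ ⟨⟨y, rfl⟩, hy⟩
    have h1 : abHom Q (χ y) = 1 := by
      rw [← MonoidHom.mem_ker, ker_abHom]; exact hy
    have h2 := hχ y
    rw [h1, toAdd_one] at h2
    have h3 : y = 1 := Multiplicative.toAdd.injective (Subtype.ext h2.symm)
    rw [h3, map_one]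
  · intro k hk
    set y : Multiplicative (LinearMap.range g.toIntLinearMap) :=
      Multiplicative.ofAdd (gR (Additive.ofMul ⟨k, hk⟩)) with hy
    have h1 : (abHom Q (χ y)).toAdd = (abHom Q k).toAdd := hχ y
    have h2 : (χ y)⁻¹ * k ∈ K ⊓ commutator (CExt Q) := by
      refine Subgroup.mem_inf.mpr ⟨mul_mem (inv_mem (hCK ⟨y, rfl⟩)) hk, ?_⟩
      rw [← ker_abHom, MonoidHom.mem_ker, map_mul, map_inv,
        Multiplicative.toAdd.injective h1, inv_mul_cancel]
    have := Subgroup.mul_mem_sup (MonoidHom.mem_range.mpr ⟨y, rfl⟩ : χ y ∈ χ.range) h2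
    rwa [mul_inv_cancel_left] at this

end Cfsg.Agent.Lib.SchurMultiplier
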