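import Cfsg.Agent.Lib.SchurMultiplier.Cover
import Mathlib

/-!
Restriction and corestriction of multipliers: the composite is the power by the index.
-/

set_option autoImplicit false

namespace Cfsg.Agent.Lib.SchurMultiplier

open Subgroup

universe u

variable {G : Type u} [Group G] (P : Subgroup G)

/-- Permutations of the cosets act on the families indexed by cosets. -/
def famAct (N : Type u) [Group N] : Equiv.Perm (G ⧸ P) →* MulAut (G ⧸ P → N) where
  toFun σ :=
    { toFun := fun h ω => h (σ.symm ω)
      invFun := fun h ω => h (σ ω)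
      left_inv := fun h => by funext ω; simp
      right_inv := fun h => by funext ω; simp
      map_mul' := fun _ _ => rfl }
  map_one' := rfl
  map_mul' _ _ := rfl

/-- The monomial group. -/
abbrev Mono (N : Type u) [Group N] := (G ⧸ P → N) ⋊[famAct P N] Equiv.Perm (G ⧸ P)

/-- Functoriality of the monomial group. -/
def monoMap {N M : Type u} [Group N] [Group M] (f : N →* M) : Mono P N →* Mono P M :=
  SemidirectProduct.map (f.compLeft (G ⧸ P)) (MonoidHom.id _) fun _ => rfl

theorem monoMap_left {N M : Type u} [Group N] [Group M] (f : N →* M) (w : Mono P N)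
    (ω : G ⧸ P) : (monoMap P f w).left ω = f (w.left ω) := rfl

theorem mono_mul_left {N : Type u} [Group N] (a b : Mono P N) (ω : G ⧸ P) :
    (a * b).left ω = a.left ω * b.left (a.right.symm ω) := rfl

/-- Transversal in the free central extension. -/
noncomputable def trans (ω : G ⧸ P) : CExt G := Function.surjInv (proj_surjective G) ω.out

theorem proj_trans (ω : G ⧸ P) : proj G (trans P ω) = ω.out :=
  Function.surjInv_eq (proj_surjective G) ω.out

/-- The monomial representation of the free central extension. -/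
noncomputable def monoRep : CExt G →* Mono P (CExt G) :=
  MonoidHom.mk'
    (fun x => ⟨fun ω => (trans P ω)⁻¹ * x * trans P ((proj G x)⁻¹ • ω),
      MulAction.toPermHom G (G ⧸ P) (proj G x)⟩)
    fun x y => by
      refine SemidirectProduct.ext (funext fun ω => ?_) ?_
      swap
      · exact (congrArg _ (map_mul (proj G) x y)).trans (map_mul _ _ _)
      rw [mono_mul_left]
      show (trans P ω)⁻¹ * (x * y) * trans P ((proj G (x * y))⁻¹ • ω) = ((trans P ω)⁻¹ * x * trans P ((proj G x)⁻¹ • ω)) *
        ((trans P ((proj G x)⁻¹ • ω))⁻¹ * y * trans P ((proj G y)⁻¹ • ((proj G x)⁻¹ • ω)))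
      rw [map_mul, mul_inv_rev, mul_smul]
      group

theorem monoRep_left (x : CExt G) (ω : G ⧸ P) :
    (monoRep P x).left ω = (trans P ω)⁻¹ * x * trans P ((proj G x)⁻¹ • ω) := rfl

theorem proj_monoRep_mem (x : CExt G) (ω : G ⧸ P) :
    proj G ((monoRep P x).left ω) ∈ P := by
  rw [monoRep_left, map_mul, map_mul, map_inv, proj_trans, proj_trans, mul_assoc,
    ← QuotientGroup.eq, QuotientGroup.out_eq']
  conv_rhs => rw [← smul_eq_mul]
  have key : ∀ (a : G) (ν : G ⧸ P), ((a • ν.out : G) : G ⧸ P) = a • ν := fun a ν => by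
    conv_rhs => rw [← QuotientGroup.out_eq' ν]
    rfl
  rw [key]
  simp

/-- Lift of the monomial representation to the multiplier of `P`. -/
noncomputable def monoLift : FreeGroup G →* Mono P (CExt P) :=
  FreeGroup.lift fun q =>
    ⟨fun ω => Function.surjInv (proj_surjective P)
        ⟨proj G ((monoRep P (QuotientGroup.mk (FreeGroup.of q))).left ω), proj_monoRep_mem P _ ω⟩,
      (monoRep P (QuotientGroup.mk (FreeGroup.of q))).right⟩

theorem monoLift_spec (x : FreeGroup G) :
    monoMap P (P.subtype.comp (proj P)) (monoLift P x) =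
      monoMap P (proj G) (monoRep P (QuotientGroup.mk x)) := by
  have h : (monoMap P (P.subtype.comp (proj P))).comp (monoLift P) =
      (monoMap P (proj G)).comp ((monoRep P).comp (QuotientGroup.mk' (relComm G))) := by
    refine FreeGroup.ext_hom _ _ fun q => ?_
    refine SemidirectProduct.ext (funext fun ω => ?_) ?_
    · simp only [MonoidHom.comp_apply, monoMap_left, monoLift, FreeGroup.lift_apply_of,
        Function.surjInv_eq (proj_surjective P), QuotientGroup.mk'_apply]
      rfl
    · simp only [MonoidHom.comp_apply, monoLift, FreeGroup.lift_apply_of]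
      rfl
  exact DFunLike.congr_fun h x

theorem monoLift_right (x : FreeGroup G) :
    (monoLift P x).right = MulAction.toPermHom G (G ⧸ P) (pres G x) :=
  congrArg SemidirectProduct.right (monoLift_spec P x)

theorem proj_monoLift_left (x : FreeGroup G) (ω : G ⧸ P) :
    ((proj P ((monoLift P x).left ω) : P) : G) =
      proj G ((monoRep P (QuotientGroup.mk x)).left ω) :=
  congrFun (congrArg SemidirectProduct.left (monoLift_spec P x)) ω

theorem monoLift_right_rel {r : FreeGroup G} (hr : r ∈ (pres G).ker) :
    (monoLift P r).right = 1 := by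
  rw [monoLift_right, MonoidHom.mem_ker.mp hr, map_one]

theorem monoRep_left_rel {r : FreeGroup G} (hr : r ∈ (pres G).ker) (ω : G ⧸ P) :
    (monoRep P (QuotientGroup.mk r)).left ω = QuotientGroup.mk r := by
  have h1 : proj G (QuotientGroup.mk r) = 1 := hr
  rw [monoRep_left, h1, inv_one, one_smul, mul_assoc,
    ← mem_center_iff.mp (ker_proj_le_center G h1) (trans P ω), inv_mul_cancel_left]

theorem monoLift_left_rel {r : FreeGroup G} (hr : r ∈ (pres G).ker) (ω : G ⧸ P) :
    (monoLift P r).left ω ∈ (proj P).ker := by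
  rw [MonoidHom.mem_ker]
  apply Subtype.ext
  rw [proj_monoLift_left, monoRep_left_rel P hr, OneMemClass.coe_one]
  exact hr

variable [Finite G]

/-- Restriction followed by corestriction is the power by the index. -/
theorem exists_res_cores :
    ∃ (f : mult P →* mult G) (g : mult G →* mult P), ∀ a, f (g a) = a ^ P.index := by
  classical
  haveI : Fintype (G ⧸ P) := Fintype.ofFinite _
  obtain ⟨β, hβ⟩ := exists_lift (proj G) (proj_surjective G) (ker_proj_le_center G) P.subtype
  have hβmem : ∀ m ∈ mult P, β m ∈ mult G := fun m hm => by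
    refine ⟨?_, ?_⟩
    · show proj G (β m) = 1
      rw [← MonoidHom.comp_apply, hβ, MonoidHom.comp_apply, MonoidHom.mem_ker.mp hm.1, map_one]
    · have := mem_map_of_mem β hm.2
      rw [commutator_def, map_commutator] at this
      exact commutator_mono le_top le_top this
  let f : mult P →* mult G :=
    MonoidHom.codRestrict (β.comp (mult P).subtype) (mult G) fun m => hβmem m m.2
  let R := (pres G).ker
  letI : CommGroup (proj P).ker :=
    { (inferInstance : Group (proj P).ker) with
      mul_comm := fun a b => Subtype.ext (mem_center_iff.mp (ker_proj_le_center P b.2) a) }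
  let g₀ : R →* (proj P).ker := MonoidHom.mk'
    (fun r => ∏ ω : G ⧸ P, ⟨(monoLift P r).left ω, monoLift_left_rel P r.2 ω⟩) fun r s => by
      rw [← Finset.prod_mul_distrib]
      refine Finset.prod_congr rfl fun ω _ => Subtype.ext ?_
      simp only [Subgroup.coe_mul, map_mul, mono_mul_left, monoLift_right_rel P r.2]
      rfl
  have hconj : ∀ (r : R) (x : FreeGroup G),
      g₀ ⟨x * r * x⁻¹, (inferInstance : R.Normal).conj_mem r r.2 x⟩ = g₀ r := by
    intro r x
    refine Fintype.prod_equiv (monoLift P x).right.symm _ _ fun ω => Subtype.ext ?_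
    have hr : (monoLift P r).left ((monoLift P x).right.symm ω) ∈ center (CExt P) :=
      ker_proj_le_center P (monoLift_left_rel P r.2 _)
    have h2 : (monoLift P x).left ω *
        (monoLift P x⁻¹).left ((monoLift P x).right.symm ω) = 1 := by
      have h3 : monoLift P x * monoLift P x⁻¹ = 1 := by rw [← map_mul, mul_inv_cancel, map_one]
      exact congrFun (congrArg SemidirectProduct.left h3) ω
    show (monoLift P (x * r * x⁻¹)).left ω = _
    rw [map_mul, map_mul, mono_mul_left, mono_mul_left, SemidirectProduct.mul_right,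
      monoLift_right_rel P r.2, mul_one, mem_center_iff.mp hr, mul_assoc, h2, mul_one]
  let K := (proj G).ker
  have hmk : ∀ r : R, (QuotientGroup.mk (r : FreeGroup G) : CExt G) ∈ K := fun r => r.2
  let q : R →* K :=
    MonoidHom.codRestrict ((QuotientGroup.mk' (relComm G)).comp R.subtype) K hmk
  have hq : Function.Surjective q := by
    rintro ⟨x, hx⟩
    obtain ⟨r, rfl⟩ := QuotientGroup.mk'_surjective _ x
    exact ⟨⟨r, hx⟩, rfl⟩
  have hker : q.ker ≤ g₀.ker := by
    have h1 : relComm G ≤ g₀.ker.map R.subtype := by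
      refine Subgroup.commutator_le.mpr fun r hr x _ => ?_
      refine ⟨⟨r, hr⟩ * ⟨x * r⁻¹ * x⁻¹,
        (inferInstance : R.Normal).conj_mem _ (R.inv_mem hr) x⟩, ?_, ?_⟩
      · have h2 : g₀ ⟨x * r⁻¹ * x⁻¹,
            (inferInstance : R.Normal).conj_mem _ (R.inv_mem hr) x⟩ = g₀ (⟨r, hr⟩⁻¹) :=
          hconj (⟨r, hr⟩⁻¹) x
        show g₀ _ = 1
        rw [map_mul, h2, map_inv, mul_inv_cancel]
      · show r * (x * r⁻¹ * x⁻¹) = _
        simp only [commutatorElement_def, mul_assoc]
    rintro r hr
    obtain ⟨s, hs, hsr⟩ := h1 ((QuotientGroup.eq_one_iff _).mp (congrArg Subtype.val hr))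
    exact Subtype.ext hsr ▸ hs
  let g₁ : K →* (proj P).ker := q.liftOfSurjective hq ⟨g₀, hker⟩
  have hg₁ : ∀ r, g₁ (q r) = g₀ r := fun r => MonoidHom.liftOfRightInverse_comp_apply _ _ _ _ r
  -- products over the cosets are multiplicative on the free group
  have hcomm : ∀ (x : FreeGroup G), x ∈ commutator (FreeGroup G) → ∀ (hx : x ∈ R),
      (g₀ ⟨x, hx⟩ : CExt P) ∈ commutator (CExt P) := by
    intro x hxc hx
    let E : FreeGroup G →* Abelianization (CExt P) := MonoidHom.mk'
      (fun y => ∏ ω : G ⧸ P, Abelianization.of ((monoLift P y).left ω)) fun y z => by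
        simp only [map_mul, mono_mul_left, Finset.prod_mul_distrib]
        congr 1
        exact Fintype.prod_equiv (monoLift P y).right.symm _ _ fun ω => rfl
    have h1 : E x = 1 := Abelianization.commutator_subset_ker E hxc
    rw [← Abelianization.ker_of, MonoidHom.mem_ker]
    show Abelianization.of ((proj P).ker.subtype (g₀ ⟨x, hx⟩)) = 1
    rw [← MonoidHom.comp_apply]
    show (Abelianization.of.comp (proj P).ker.subtype) (∏ ω, _) = 1
    rw [map_prod]
    exact h1
  letI : CommGroup K :=
    { (inferInstance : Group K) with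
      mul_comm := fun a b => Subtype.ext (mem_center_iff.mp (ker_proj_le_center G b.2) a) }
  have hdiff : ∀ (x : FreeGroup G) (ω : G ⧸ P),
      (monoRep P (QuotientGroup.mk x)).left ω * (β ((monoLift P x).left ω))⁻¹ ∈ K := by
    intro x ω
    rw [MonoidHom.mem_ker, map_mul, map_inv, ← MonoidHom.comp_apply, hβ]
    show _ * ((proj P ((monoLift P x).left ω) : P) : G)⁻¹ = 1
    rw [proj_monoLift_left, mul_inv_cancel]
  let D : FreeGroup G →* K := MonoidHom.mk' (fun x => ∏ ω : G ⧸ P, ⟨_, hdiff x ω⟩) fun x y => by
    have h1 : ∀ ω, (⟨_, hdiff (x * y) ω⟩ : K) =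
        ⟨_, hdiff x ω⟩ * ⟨_, hdiff y ((monoLift P x).right.symm ω)⟩ := by
      intro ω
      apply Subtype.ext
      have hr : (monoRep P (QuotientGroup.mk x)).right = (monoLift P x).right := by
        rw [monoLift_right]; rfl
      show (monoRep P (QuotientGroup.mk (x * y))).left ω *
          (β ((monoLift P (x * y)).left ω))⁻¹ = _
      rw [QuotientGroup.mk_mul, map_mul, map_mul, mono_mul_left, mono_mul_left, hr, map_mul,
        mul_inv_rev, Subgroup.coe_mul]
      have hz := mem_center_iff.mp
        (ker_proj_le_center G (hdiff y ((monoLift P x).right.symm ω)))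
        ((β ((monoLift P x).left ω))⁻¹)
      simp only [mul_assoc] at hz ⊢
      rw [← hz]
    simp only [h1, Finset.prod_mul_distrib]
    congr 1
    exact Fintype.prod_equiv (monoLift P x).right.symm _ _ fun ω => rfl
  have hmem : ∀ a : mult G, ∃ r : R, (r : FreeGroup G) ∈ commutator (FreeGroup G) ∧
      QuotientGroup.mk (r : FreeGroup G) = (a : CExt G) := by
    intro a
    have h1 : (a : CExt G) ∈ (commutator (FreeGroup G)).map (QuotientGroup.mk' (relComm G)) := by
      rw [commutator_def, map_commutator,
        map_top_of_surjective _ (QuotientGroup.mk'_surjective _)]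
      exact a.2.2
    obtain ⟨r, hr, hra⟩ := h1
    refine ⟨⟨r, ?_⟩, hr, hra⟩
    have h2 : proj G (a : CExt G) = 1 := a.2.1
    rw [← hra] at h2
    exact h2
  have hgm : ∀ a : mult G, (g₁ ⟨a, a.2.1⟩ : CExt P) ∈ mult P := by
    intro a
    obtain ⟨r, hr, hra⟩ := hmem a
    have h1 : (⟨a, a.2.1⟩ : K) = q r := Subtype.ext hra.symm
    rw [h1, hg₁]
    exact ⟨(g₀ r).2, hcomm r hr r.2⟩
  let g : mult G →* mult P :=
    { toFun := fun a => ⟨g₁ ⟨a, a.2.1⟩, hgm a⟩
      map_one' := Subtype.ext (by
        show ((g₁ (1 : K) : (proj P).ker) : CExt P) = 1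
        rw [map_one]; rfl)
      map_mul' := fun a b => Subtype.ext (by
        show ((g₁ (⟨a, a.2.1⟩ * ⟨b, b.2.1⟩ : K) : (proj P).ker) : CExt P) = _
        rw [map_mul]; rfl) }
  refine ⟨f, g, fun a => ?_⟩
  obtain ⟨r, hr, hra⟩ := hmem a
  apply Subtype.ext
  show β ((g₁ ⟨a, a.2.1⟩ : (proj P).ker) : CExt P) = ((a ^ P.index : mult G) : CExt G)
  have h1 : (⟨a, a.2.1⟩ : K) = q r := Subtype.ext hra.symm
  rw [h1, hg₁, SubmonoidClass.coe_pow]
  have hD : D r = 1 := Abelianization.commutator_subset_ker D hr
  let βK : (proj P).ker →* K := MonoidHom.codRestrict (β.comp (proj P).ker.subtype) K fun m => by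
    show proj G (β m) = 1
    rw [← MonoidHom.comp_apply, hβ, MonoidHom.comp_apply, MonoidHom.mem_ker.mp m.2, map_one]
  have h2 : D r = q r ^ P.index * (βK (g₀ r))⁻¹ := by
    show (∏ ω : G ⧸ P, _) = _ * (βK (∏ ω : G ⧸ P, _))⁻¹
    rw [map_prod, ← Finset.prod_inv_distrib, Subgroup.index, Nat.card_eq_fintype_card,
      ← Finset.card_univ, ← Finset.prod_const, ← Finset.prod_mul_distrib]
    refine Finset.prod_congr rfl fun ω _ => Subtype.ext ?_
    show (monoRep P (QuotientGroup.mk (r : FreeGroup G))).left ω * _ = _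
    rw [monoRep_left_rel P r.2 ω]
    rfl
  rw [hD, eq_comm, mul_inv_eq_one] at h2
  rw [← hra]
  exact (congrArg Subtype.val h2).symm

end Cfsg.Agent.Lib.SchurMultiplier
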