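import Cfsg.Agent.Lib.SchurMultiplier.Cover
import Mathlib.LinearAlgebra.TensorProduct.Basic
import Mathlib.Algebra.Group.MinimalAxioms

/-!
The Schur multiplier of a direct product.
-/

set_option autoImplicit false

namespace Cfsg.Agent.Lib.SchurMultiplier

open scoped commutatorElement TensorProduct

universe u v w

variable {Q₁ : Type u} [Group Q₁] {Q₂ : Type v} [Group Q₂]

/-- The cross term. -/
abbrev Cross (Q₁ : Type u) (Q₂ : Type v) [Group Q₁] [Group Q₂] :=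
  TensorProduct ℤ (Additive (Abelianization Q₁)) (Additive (Abelianization Q₂))

/-- The abelian image of an element of the free central extension. -/
def ab {Q : Type u} [Group Q] (x : CExt Q) : Additive (Abelianization Q) :=
  Additive.ofMul (Abelianization.of (proj Q x))

theorem ab_mul {Q : Type u} [Group Q] (x y : CExt Q) : ab (x * y) = ab x + ab y := by
  simp [ab, map_mul]

theorem ab_one {Q : Type u} [Group Q] : ab (1 : CExt Q) = 0 := by simp [ab]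

theorem ab_ker {Q : Type u} [Group Q] {x : CExt Q} (hx : x ∈ (proj Q).ker) : ab x = 0 := by
  rw [MonoidHom.mem_ker] at hx
  simp [ab, hx]

/-- The test extension of `Q₁ × Q₂`. -/
@[ext] structure ProdExt (Q₁ : Type u) (Q₂ : Type v) [Group Q₁] [Group Q₂] : Type max u v where
  fst : CExt Q₁
  snd : CExt Q₂
  cross : Cross Q₁ Q₂

noncomputable instance : Mul (ProdExt Q₁ Q₂) :=
  ⟨fun a b => ⟨a.fst * b.fst, a.snd * b.snd, a.cross + b.cross + ab b.fst ⊗ₜ[ℤ] ab a.snd⟩⟩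

noncomputable instance : One (ProdExt Q₁ Q₂) := ⟨⟨1, 1, 0⟩⟩

noncomputable instance : Inv (ProdExt Q₁ Q₂) :=
  ⟨fun a => ⟨a.fst⁻¹, a.snd⁻¹, -a.cross + ab a.fst ⊗ₜ[ℤ] ab a.snd⟩⟩

theorem prodExt_mul_def (a b : ProdExt Q₁ Q₂) :
    a * b = ⟨a.fst * b.fst, a.snd * b.snd, a.cross + b.cross + ab b.fst ⊗ₜ[ℤ] ab a.snd⟩ := rfl

theorem prodExt_one_def : (1 : ProdExt Q₁ Q₂) = ⟨1, 1, 0⟩ := rfl

noncomputable instance : Group (ProdExt Q₁ Q₂) :=
  Group.ofLeftAxioms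
    (fun a b c => by
      simp only [prodExt_mul_def, ab_mul, TensorProduct.add_tmul, TensorProduct.tmul_add]
      ext <;> simp [mul_assoc]
      abel)
    (fun a => by
      simp only [prodExt_mul_def, prodExt_one_def, ab_one, TensorProduct.tmul_zero]
      ext <;> simp)
    (fun a => by
      show (⟨a.fst⁻¹, a.snd⁻¹, -a.cross + ab a.fst ⊗ₜ[ℤ] ab a.snd⟩ : ProdExt Q₁ Q₂) * a = 1
      have h : ab a.snd⁻¹ = -ab a.snd := eq_neg_of_add_eq_zero_left (by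
        rw [← ab_mul, inv_mul_cancel, ab_one])
      simp only [prodExt_mul_def, prodExt_one_def, h, TensorProduct.tmul_neg]
      ext <;> simp)

/-- The projection of the test extension. -/
noncomputable def extHom : ProdExt Q₁ Q₂ →* Q₁ × Q₂ where
  toFun a := (proj Q₁ a.fst, proj Q₂ a.snd)
  map_one' := by simp [prodExt_one_def]
  map_mul' a b := by simp [prodExt_mul_def]

theorem extHom_surjective : Function.Surjective (extHom (Q₁ := Q₁) (Q₂ := Q₂)) := fun q => by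
  obtain ⟨x, hx⟩ := proj_surjective Q₁ q.1
  obtain ⟨y, hy⟩ := proj_surjective Q₂ q.2
  exact ⟨⟨x, y, 0⟩, Prod.ext hx hy⟩

theorem ker_extHom_le : (extHom (Q₁ := Q₁) (Q₂ := Q₂)).ker ≤ Subgroup.center (ProdExt Q₁ Q₂) := by
  intro a ha
  rw [MonoidHom.mem_ker] at ha
  have h1 : a.fst ∈ (proj Q₁).ker := congrArg Prod.fst ha
  have h2 : a.snd ∈ (proj Q₂).ker := congrArg Prod.snd ha
  rw [Subgroup.mem_center_iff]
  intro b
  simp only [prodExt_mul_def, ab_ker h1, ab_ker h2, TensorProduct.zero_tmul, TensorProduct.tmul_zero]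
  ext
  · exact Subgroup.mem_center_iff.mp (ker_proj_le_center Q₁ h1) b.fst
  · exact Subgroup.mem_center_iff.mp (ker_proj_le_center Q₂ h2) b.snd
  · simp [add_comm]

/-- The first embedding. -/
noncomputable def incl₁ : CExt Q₁ →* ProdExt Q₁ Q₂ where
  toFun x := ⟨x, 1, 0⟩
  map_one' := rfl
  map_mul' x y := by simp [prodExt_mul_def, ab_one]

/-- The second embedding. -/
noncomputable def incl₂ : CExt Q₂ →* ProdExt Q₁ Q₂ where
  toFun y := ⟨1, y, 0⟩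
  map_one' := rfl
  map_mul' x y := by simp [prodExt_mul_def, ab_one]

/-- The first coordinate. -/
noncomputable def fstHom : ProdExt Q₁ Q₂ →* CExt Q₁ where
  toFun a := a.fst
  map_one' := rfl
  map_mul' a b := rfl

/-- The second coordinate. -/
noncomputable def sndHom : ProdExt Q₁ Q₂ →* CExt Q₂ where
  toFun a := a.snd
  map_one' := rfl
  map_mul' a b := rfl

theorem commutator_incl (x : CExt Q₁) (y : CExt Q₂) :
    ⁅incl₂ (Q₁ := Q₁) y, incl₁ (Q₂ := Q₂) x⁆ = ⟨1, 1, ab x ⊗ₜ[ℤ] ab y⟩ := by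
  have h1 : incl₂ (Q₁ := Q₁) y * incl₁ (Q₂ := Q₂) x =
      (⟨1, 1, ab x ⊗ₜ[ℤ] ab y⟩ : ProdExt Q₁ Q₂) * (incl₁ x * incl₂ y) := by
    simp [incl₁, incl₂, prodExt_mul_def, ab_one]
  rw [commutatorElement_def, h1]
  group

theorem commutator_le_comap {A B : Type*} [Group A] [Group B] (f : A →* B) :
    commutator A ≤ (commutator B).comap f := by
  rw [← Subgroup.map_le_iff_le_comap, commutator_def, Subgroup.map_commutator]
  exact Subgroup.commutator_mono le_top le_top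

theorem exists_map_mult {Q : Type u} [Group Q] {P : Type v} [Group P] (f : Q →* P) :
    ∃ b : CExt Q →* CExt P, (proj P).comp b = f.comp (proj Q) ∧ ∀ m ∈ mult Q, b m ∈ mult P := by
  obtain ⟨b, hb⟩ := exists_lift (proj P) (proj_surjective P) (ker_proj_le_center P) f
  refine ⟨b, hb, fun m hm => ⟨?_, commutator_le_comap b hm.2⟩⟩
  show proj P (b m) = 1
  rw [← MonoidHom.comp_apply, hb, MonoidHom.comp_apply, show proj Q m = 1 from hm.1, map_one]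

/-- Two maps congruent modulo the centre agree on commutators. -/
theorem eqOn_commutator_of_central {A X P : Type*} [Group A] [Group X] [Group P] {ξ : X →* P}
    (hc : ξ.ker ≤ Subgroup.center X) {b b' : A →* X} (h : ξ.comp b = ξ.comp b') {e : A}
    (he : e ∈ commutator A) : b e = b' e := by
  suffices commutator A ≤ b.eqLocus b' from this he
  rw [commutator_def, Subgroup.commutator_le]
  intro x _ y _
  show b ⁅x, y⁆ = b' ⁅x, y⁆
  have key : ∀ x, ∃ z ∈ Subgroup.center X, b' x = b x * z := fun x => ⟨(b x)⁻¹ * b' x, hc (by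
    rw [MonoidHom.mem_ker, map_mul, map_inv, ← MonoidHom.comp_apply, ← MonoidHom.comp_apply, h,
      inv_mul_cancel]), by simp⟩
  obtain ⟨z, hz, hx⟩ := key x
  obtain ⟨w, hw, hy⟩ := key y
  rw [map_commutatorElement, map_commutatorElement, hx, hy]
  rw [Subgroup.mem_center_iff] at hz hw
  simp only [commutatorElement_def, mul_inv_rev]
  symm
  calc b x * z * (b y * w) * (z⁻¹ * (b x)⁻¹) * (w⁻¹ * (b y)⁻¹)
      = b x * (z * (b y * w)) * z⁻¹ * ((b x)⁻¹ * w⁻¹) * (b y)⁻¹ := by group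
    _ = b x * ((b y * w) * z) * z⁻¹ * ((b x)⁻¹ * w⁻¹) * (b y)⁻¹ := by rw [hz]
    _ = b x * b y * (w * (b x)⁻¹) * w⁻¹ * (b y)⁻¹ := by group
    _ = b x * b y * ((b x)⁻¹ * w) * w⁻¹ * (b y)⁻¹ := by rw [hw]
    _ = b x * b y * (b x)⁻¹ * (b y)⁻¹ := by group

/-- The multiplier of a product. -/
theorem nonempty_mult_prod :
    Nonempty (mult (Q₁ × Q₂) ≃* mult Q₁ × mult Q₂ × Multiplicative (Cross Q₁ Q₂)) := by
  classical
  obtain ⟨β, hβ⟩ := exists_lift (extHom (Q₁ := Q₁) (Q₂ := Q₂)) extHom_surjective ker_extHom_le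
    (MonoidHom.id (Q₁ × Q₂))
  rw [MonoidHom.id_comp] at hβ
  obtain ⟨ι₁, hι₁, hι₁m⟩ := exists_map_mult (MonoidHom.inl Q₁ Q₂)
  obtain ⟨ι₂, hι₂, hι₂m⟩ := exists_map_mult (MonoidHom.inr Q₁ Q₂)
  have hι₁p : ∀ x, proj (Q₁ × Q₂) (ι₁ x) = (proj Q₁ x, 1) := fun x => DFunLike.congr_fun hι₁ x
  have hι₂p : ∀ x, proj (Q₁ × Q₂) (ι₂ x) = (1, proj Q₂ x) := fun x => DFunLike.congr_fun hι₂ x
  have hcc : ∀ {z : CExt (Q₁ × Q₂)}, proj (Q₁ × Q₂) z = 1 → ∀ g, g * z = z * g := fun {z} hz =>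
    Subgroup.mem_center_iff.mp (ker_proj_le_center _ hz)
  have hcomm1 : ∀ x y, proj (Q₁ × Q₂) ⁅ι₂ y, ι₁ x⁆ = 1 := fun x y => by
    rw [map_commutatorElement, hι₁p, hι₂p, commutatorElement_eq_one_iff_mul_comm]
    simp
  have hcrossmem : ∀ x y, ⁅ι₂ y, ι₁ x⁆ ∈ mult (Q₁ × Q₂) := fun x y =>
    ⟨hcomm1 x y, by
      rw [commutator_def]
      exact Subgroup.commutator_mem_commutator (Subgroup.mem_top _) (Subgroup.mem_top _)⟩
  -- the pairing is bilinear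
  have hmulx : ∀ x x' y, ⁅ι₂ y, ι₁ (x * x')⁆ = ⁅ι₂ y, ι₁ x⁆ * ⁅ι₂ y, ι₁ x'⁆ := fun x x' y => by
    rw [map_mul, show ⁅ι₂ y, ι₁ x * ι₁ x'⁆ = ⁅ι₂ y, ι₁ x⁆ * (ι₁ x * ⁅ι₂ y, ι₁ x'⁆ * (ι₁ x)⁻¹) by
      simp only [commutatorElement_def]; group, hcc (hcomm1 x' y) (ι₁ x), mul_inv_cancel_right]
  have hmuly : ∀ x y y', ⁅ι₂ (y * y'), ι₁ x⁆ = ⁅ι₂ y, ι₁ x⁆ * ⁅ι₂ y', ι₁ x⁆ := fun x y y' => by
    rw [map_mul, show ⁅ι₂ y * ι₂ y', ι₁ x⁆ = (ι₂ y * ⁅ι₂ y', ι₁ x⁆ * (ι₂ y)⁻¹) * ⁅ι₂ y, ι₁ x⁆ by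
      simp only [commutatorElement_def]; group, hcc (hcomm1 x y') (ι₂ y), mul_inv_cancel_right,
      hcc (hcomm1 x y) ⁅ι₂ y', ι₁ x⁆]
  -- as a bilinear map on abelianizations
  obtain ⟨s₁, hs₁⟩ := (proj_surjective Q₁).hasRightInverse
  obtain ⟨s₂, hs₂⟩ := (proj_surjective Q₂).hasRightInverse
  let M := mult (Q₁ × Q₂)
  have hkerx : ∀ x x' y, proj Q₁ x = proj Q₁ x' → ⁅ι₂ y, ι₁ x⁆ = ⁅ι₂ y, ι₁ x'⁆ := fun x x' y h => by
    have hk : proj (Q₁ × Q₂) (ι₁ (x⁻¹ * x')) = 1 := by simp [hι₁p, h]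
    have h2 := hmulx x (x⁻¹ * x') y
    rw [mul_inv_cancel_left, commutatorElement_eq_one_iff_mul_comm.mpr (hcc hk _), mul_one] at h2
    exact h2.symm
  have hkery : ∀ x y y', proj Q₂ y = proj Q₂ y' → ⁅ι₂ y, ι₁ x⁆ = ⁅ι₂ y', ι₁ x⁆ := fun x y y' h => by
    have hk : proj (Q₁ × Q₂) (ι₂ (y⁻¹ * y')) = 1 := by simp [hι₂p, h]
    have h2 := hmuly x y (y⁻¹ * y')
    rw [mul_inv_cancel_left, commutatorElement_eq_one_iff_mul_comm.mpr (hcc hk _).symm, mul_one] at h2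
    exact h2.symm
  let c : Q₁ → Q₂ → M := fun a b => ⟨⁅ι₂ (s₂ b), ι₁ (s₁ a)⁆, hcrossmem _ _⟩
  let φ₁ : Q₂ → (Abelianization Q₁ →* M) := fun b => Abelianization.lift (MonoidHom.mk' (fun a => c a b)
    fun a a' => Subtype.ext (by
      show _ = ⁅ι₂ (s₂ b), ι₁ (s₁ a)⁆ * ⁅ι₂ (s₂ b), ι₁ (s₁ a')⁆
      rw [← hmulx]
      exact hkerx _ _ _ (by rw [map_mul, hs₁, hs₁, hs₁])))
  have hφ₁ : ∀ b a, φ₁ b (Abelianization.of a) = c a b := fun b a => Abelianization.lift_apply_of _ _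
  let φ₂ : Abelianization Q₂ →* (Abelianization Q₁ →* M) := Abelianization.lift (MonoidHom.mk' φ₁
    fun b b' => Abelianization.hom_ext _ _ (MonoidHom.ext fun a => by
      simp only [MonoidHom.comp_apply, MonoidHom.mul_apply, hφ₁]
      exact Subtype.ext (by
        show _ = ⁅ι₂ (s₂ b), ι₁ (s₁ a)⁆ * ⁅ι₂ (s₂ b'), ι₁ (s₁ a)⁆
        rw [← hmuly]
        exact hkery _ _ _ (by rw [map_mul, hs₂, hs₂, hs₂]))))
  have hφ₂ : ∀ b a, φ₂ (Abelianization.of b) (Abelianization.of a) = c a b := fun b a => by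
    rw [show φ₂ (Abelianization.of b) = φ₁ b from Abelianization.lift_apply_of _ _, hφ₁]
  let f : Additive (Abelianization Q₁) →+ Additive (Abelianization Q₂) →+ Additive M :=
    AddMonoidHom.mk' (fun a => AddMonoidHom.mk' (fun b => Additive.ofMul (φ₂ b.toMul a.toMul))
        fun b b' => by simp [map_mul])
      fun a a' => AddMonoidHom.ext fun b => by simp [map_mul]
  let T : Cross Q₁ Q₂ →+ Additive M := TensorProduct.liftAddHom f fun r m n => by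
    rw [map_zsmul, AddMonoidHom.smul_apply, map_zsmul]
  let T' : Multiplicative (Cross Q₁ Q₂) →* M := T.toMultiplicativeLeft
  have hT : ∀ x y, (T' (Multiplicative.ofAdd (ab x ⊗ₜ[ℤ] ab y)) : CExt (Q₁ × Q₂)) = ⁅ι₂ y, ι₁ x⁆ := by
    intro x y
    have h1 : T' (Multiplicative.ofAdd (ab x ⊗ₜ[ℤ] ab y)) = c (proj Q₁ x) (proj Q₂ y) := by
      rw [← hφ₂]; rfl
    rw [h1]
    show ⁅ι₂ (s₂ (proj Q₂ y)), ι₁ (s₁ (proj Q₁ x))⁆ = _
    rw [hkerx _ x _ (hs₁ _), hkery _ _ y (hs₂ _)]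
  let Ψ : mult Q₁ × mult Q₂ × Multiplicative (Cross Q₁ Q₂) →* M :=
    ((ι₁.comp (mult Q₁).subtype).codRestrict M fun m => hι₁m m m.2).coprod
      (((ι₂.comp (mult Q₂).subtype).codRestrict M fun m => hι₂m m m.2).coprod T')
  -- left inverse
  have hj₁ : ∀ m ∈ mult Q₁, β (ι₁ m) = incl₁ m := fun m hm =>
    eqOn_commutator_of_central (b := β.comp ι₁) ker_extHom_le (by
      rw [← MonoidHom.comp_assoc, hβ, hι₁]
      ext x <;> simp [extHom, incl₁]) hm.2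
  have hj₂ : ∀ m ∈ mult Q₂, β (ι₂ m) = incl₂ m := fun m hm =>
    eqOn_commutator_of_central (b := β.comp ι₂) ker_extHom_le (by
      rw [← MonoidHom.comp_assoc, hβ, hι₂]
      ext x <;> simp [extHom, incl₂]) hm.2
  have hj : ∀ x y, β ⁅ι₂ y, ι₁ x⁆ = ⟨1, 1, ab x ⊗ₜ[ℤ] ab y⟩ := by
    intro x y
    rw [map_commutatorElement, ← commutator_incl]
    have e1 : ∃ z ∈ Subgroup.center (ProdExt Q₁ Q₂), β (ι₁ x) = incl₁ x * z :=
      ⟨(incl₁ x)⁻¹ * β (ι₁ x), ker_extHom_le (by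
        rw [MonoidHom.mem_ker, map_mul, map_inv, ← MonoidHom.comp_apply extHom β, hβ, hι₁p]
        simp [extHom, incl₁]), by simp⟩
    have e2 : ∃ z ∈ Subgroup.center (ProdExt Q₁ Q₂), β (ι₂ y) = incl₂ y * z :=
      ⟨(incl₂ y)⁻¹ * β (ι₂ y), ker_extHom_le (by
        rw [MonoidHom.mem_ker, map_mul, map_inv, ← MonoidHom.comp_apply extHom β, hβ, hι₂p]
        simp [extHom, incl₂]), by simp⟩
    obtain ⟨z, hz, hz'⟩ := e1
    obtain ⟨w, hw, hw'⟩ := e2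
    rw [hz', hw']
    rw [Subgroup.mem_center_iff] at hz hw
    simp only [commutatorElement_def, mul_inv_rev]
    calc incl₂ y * w * (incl₁ x * z) * (w⁻¹ * (incl₂ y)⁻¹) * (z⁻¹ * (incl₁ x)⁻¹)
        = incl₂ y * (w * (incl₁ x * z)) * w⁻¹ * (incl₂ y)⁻¹ * (z⁻¹ * (incl₁ x)⁻¹) := by group
      _ = incl₂ y * ((incl₁ x * z) * w) * w⁻¹ * (incl₂ y)⁻¹ * (z⁻¹ * (incl₁ x)⁻¹) := by rw [← hw]
      _ = incl₂ y * incl₁ x * (z * (incl₂ y)⁻¹) * z⁻¹ * (incl₁ x)⁻¹ := by group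
      _ = incl₂ y * incl₁ x * ((incl₂ y)⁻¹ * z) * z⁻¹ * (incl₁ x)⁻¹ := by rw [← hz]
      _ = incl₂ y * incl₁ x * (incl₂ y)⁻¹ * (incl₁ x)⁻¹ := by group
  let Cr : ProdExt Q₁ Q₂ → Cross Q₁ Q₂ := ProdExt.cross
  have hT3 : ∀ t, β (T' t : CExt (Q₁ × Q₂)) = ⟨1, 1, t.toAdd⟩ := by
    intro t
    obtain ⟨t, rfl⟩ := Multiplicative.ofAdd.surjective t
    induction t using TensorProduct.induction_on with
    | zero => simp [prodExt_one_def]
    | tmul a b =>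
      obtain ⟨a', rfl⟩ : ∃ a', a = ab a' := by
        obtain ⟨q, hq⟩ := QuotientGroup.mk_surjective a.toMul
        obtain ⟨x, hx⟩ := proj_surjective Q₁ q
        exact ⟨x, by rw [ab, hx]; exact (congrArg Additive.ofMul hq).symm⟩
      obtain ⟨b', rfl⟩ : ∃ b', b = ab b' := by
        obtain ⟨q, hq⟩ := QuotientGroup.mk_surjective b.toMul
        obtain ⟨x, hx⟩ := proj_surjective Q₂ q
        exact ⟨x, by rw [ab, hx]; exact (congrArg Additive.ofMul hq).symm⟩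
      rw [hT, hj]
      rfl
    | add a b iha ihb =>
      rw [ofAdd_add, map_mul, Subgroup.coe_mul, map_mul, iha, ihb]
      simp [prodExt_mul_def, ab_one]
  have hΨβ : ∀ p, β (Ψ p : CExt (Q₁ × Q₂)) = ⟨(p.1 : CExt Q₁), (p.2.1 : CExt Q₂), p.2.2.toAdd⟩ := by
    intro p
    show β (ι₁ p.1 * (ι₂ p.2.1 * (T' p.2.2 : CExt (Q₁ × Q₂)))) = _
    rw [map_mul, map_mul, hj₁ _ p.1.2, hj₂ _ p.2.1.2, hT3]
    simp [incl₁, incl₂, prodExt_mul_def, ab_one]
  have hinj : Function.Injective Ψ := fun p p' h => by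
    have h1 := hΨβ p
    rw [h, hΨβ p', ProdExt.mk.injEq] at h1
    exact Prod.ext (Subtype.ext h1.1.symm) (Prod.ext (Subtype.ext h1.2.1.symm) h1.2.2.symm)
  -- the map back from the test extension
  have hmem : ∀ x y, (T' (Multiplicative.ofAdd (ab x ⊗ₜ[ℤ] ab y)) : CExt (Q₁ × Q₂)) *
      (ι₁ x * ι₂ y) = ι₂ y * ι₁ x := fun x y => by
    rw [hT, commutatorElement_def]; group
  let θ : ProdExt Q₁ Q₂ →* CExt (Q₁ × Q₂) := MonoidHom.mk'
    (fun e => ι₁ e.fst * ι₂ e.snd * (T' (Multiplicative.ofAdd e.cross) : CExt (Q₁ × Q₂))) fun e e' => by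
      have hc : ∀ t g, g * (T' t : CExt (Q₁ × Q₂)) = (T' t : CExt (Q₁ × Q₂)) * g := fun t g =>
        hcc (T' t).2.1 g
      simp only [prodExt_mul_def, ofAdd_add, map_mul, Subgroup.coe_mul]
      generalize hu : (T' (Multiplicative.ofAdd e.cross) : CExt (Q₁ × Q₂)) = u
      generalize hv : (T' (Multiplicative.ofAdd e'.cross) : CExt (Q₁ × Q₂)) = v
      have hcu : ∀ g, g * u = u * g := hu ▸ hc _
      have hcw := hc (Multiplicative.ofAdd (ab e'.fst ⊗ₜ[ℤ] ab e.snd))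
      have hmm := hmem e'.fst e.snd
      generalize (T' (Multiplicative.ofAdd (ab e'.fst ⊗ₜ[ℤ] ab e.snd)) : CExt (Q₁ × Q₂)) = w at hcw hmm ⊢
      symm
      calc ι₁ e.fst * ι₂ e.snd * u * (ι₁ e'.fst * ι₂ e'.snd * v)
          = ι₁ e.fst * ι₂ e.snd * (u * (ι₁ e'.fst * ι₂ e'.snd)) * v := by group
        _ = ι₁ e.fst * (ι₂ e.snd * ι₁ e'.fst) * ι₂ e'.snd * u * v := by rw [← hcu]; group
        _ = ι₁ e.fst * (w * (ι₁ e'.fst * ι₂ e.snd)) * ι₂ e'.snd * u * v := by rw [hmm]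
        _ = ι₁ e.fst * (ι₁ e'.fst * ι₂ e.snd) * (w * (ι₂ e'.snd * u * v)) := by rw [← hcw]; group
        _ = _ := by rw [← hcw]; group
  have hθ : (proj (Q₁ × Q₂)).comp θ = extHom := by
    refine MonoidHom.ext fun e => ?_
    show proj (Q₁ × Q₂) (ι₁ e.fst * ι₂ e.snd * _) = _
    rw [map_mul, map_mul, hι₁p, hι₂p, show proj (Q₁ × Q₂) (T' (Multiplicative.ofAdd e.cross) :
      CExt (Q₁ × Q₂)) = 1 from (T' _).2.1]
    simp [extHom]
  have hsurj : Function.Surjective Ψ := by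
    intro m
    have hm : θ (β (m : CExt (Q₁ × Q₂))) = m :=
      eqOn_commutator_of_central (b := θ.comp β) (b' := MonoidHom.id _)
        (ker_proj_le_center _) (by rw [← MonoidHom.comp_assoc, hθ, hβ, MonoidHom.comp_id]) m.2.2
    have h1 : extHom (β (m : CExt (Q₁ × Q₂))) = 1 := (DFunLike.congr_fun hβ _).trans m.2.1
    have ha : (β (m : CExt (Q₁ × Q₂))).fst ∈ mult Q₁ :=
      ⟨congrArg Prod.fst h1, commutator_le_comap (fstHom.comp β) m.2.2⟩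
    have hb : (β (m : CExt (Q₁ × Q₂))).snd ∈ mult Q₂ :=
      ⟨congrArg Prod.snd h1, commutator_le_comap (sndHom.comp β) m.2.2⟩
    refine ⟨(⟨_, ha⟩, ⟨_, hb⟩, Multiplicative.ofAdd (β (m : CExt (Q₁ × Q₂))).cross), Subtype.ext ?_⟩
    refine Eq.trans ?_ hm
    exact (mul_assoc _ _ _).symm
  exact ⟨(MulEquiv.ofBijective Ψ ⟨hinj, hsurj⟩).symm⟩

theorem hasSchurMultiplier_prod [Finite Q₁] [Finite Q₂] {A B : Type w} [CommGroup A] [CommGroup B]
    (hA : Cfsg.HasSchurMultiplier Q₁ A) (hB : Cfsg.HasSchurMultiplier Q₂ B) :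
    Cfsg.HasSchurMultiplier (Q₁ × Q₂) (A × B × Multiplicative (Cross Q₁ Q₂)) := by
  obtain ⟨e₁⟩ := hasSchurMultiplier_iff.mp hA
  obtain ⟨e₂⟩ := hasSchurMultiplier_iff.mp hB
  obtain ⟨e⟩ := nonempty_mult_prod (Q₁ := Q₁) (Q₂ := Q₂)
  exact hasSchurMultiplier_iff.mpr
    ⟨(e₁.prodCongr (e₂.prodCongr (MulEquiv.refl _))).trans e.symm⟩

end Cfsg.Agent.Lib.SchurMultiplier
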